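import Groth.Agent.H18.VA.PullSec
import Groth.Agent.H67.PullGenLocus
import Groth.Agent.S3572
import Groth.Agent.S3573

/-!
# `P^n_ℤ ×_ℤ Spec A ≅ P^n_A` (helper18)

The frozen projective space over the scheme `Spec A` (a fibre product with `P^n_ℤ`) is isomorphic,
over `Spec A` and compatibly with `O(1)`, to `Proj A[T₀, …, T_n]`. The proof is formal, from the
universal property of projective space (existence `S3572` and uniqueness `S3573`).
-/

set_option autoImplicit false
set_option linter.style.haveILetI false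
universe u
open CategoryTheory CategoryTheory.Limits AlgebraicGeometry TopologicalSpace Opposite

namespace Groth.Agent.H18.VA

open Groth.Agent.H18 Groth.Agent.H18.PUP Groth.Agent.H18.STL

section coord

variable (n : ℕ) (R : Type u) [CommRing R]

theorem exists_X_notMem (x : ProjectiveSpectrum (CohB1.polyGrading n R)) :
    ∃ i : Fin (n + 1), (MvPolynomial.X i : MvPolynomial (Fin (n + 1)) R) ∉
      x.asHomogeneousIdeal :=
  exists_notMem_of_adjoin_eq_top (CohB1.polyGrading n R)
    (fun i : Fin (n + 1) => (MvPolynomial.X i : MvPolynomial (Fin (n + 1)) R))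
    (MvPolynomial.adjoin_range_X) x

theorem isInvertible_twistProjSpace : PicF.IsInvertible (Twist.twistProjSpace n R 1) :=
  (isAmple_twistProjSpace n R).1

theorem genLocus_coord (i : Fin (n + 1)) :
    CohB1.genLocus (Twist.twistProjSpace n R 1)
      (sectionHom (Twist.twistProjSpace n R 1) (ProjUP.coord n R i)) =
      Proj.basicOpen (CohB1.polyGrading n R) (MvPolynomial.X i) :=
  genLocus_sectionHom_secOne (CohB1.polyGrading n R) (X_mem R n i)
    (fun x => by
      obtain ⟨j, hj⟩ := exists_X_notMem n R x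
      exact ⟨MvPolynomial.X j, X_mem R n j, hj⟩)

theorem generatedBy_coord :
    ProjUP.GeneratedBy (Twist.twistProjSpace n R 1) (ProjUP.coord n R) :=
  generatedBy_of_cover_genLocus _ (isInvertible_twistProjSpace n R) _ (fun x => by
    obtain ⟨i, hi⟩ := exists_X_notMem n R x
    exact ⟨i, by rw [genLocus_coord]; exact hi⟩)

end coord

section iso

variable (n : ℕ) (A : Type u) [CommRing A]

theorem inv_app_of_hom_app {X : Scheme.{u}} {M N : X.Modules} (e : M ≅ N) (a : ProjUP.Γm M)
    (b : ProjUP.Γm N) (h : e.hom.app ⊤ a = b) : e.inv.app ⊤ b = a := by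
  rw [← h]
  have h1 : e.hom ≫ e.inv = 𝟙 _ := e.hom_inv_id
  exact congrArg (fun φ => (Scheme.Modules.Hom.app φ ⊤) a) h1

/-- the frozen projective space over `Spec A` is `Proj A[T₀, …, T_n]`, over `Spec A` and
compatibly with `O(1)` and the coordinates -/
theorem exists_projSpaceOver_iso :
    ∃ (h : CohB1.ProjSpaceOver n (Spec (CommRingCat.of A)) ≅ CohB1.ProjSpace n A)
      (_ : h.hom ≫ CohB1.ProjSpace.toSpec n A =
        pullback.snd (CohB1.ProjSpace.toSpec n (ULift.{u} ℤ))
          (specULiftZIsTerminal.from (Spec (CommRingCat.of A))))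
      (τ : (Scheme.Modules.pullback h.hom).obj (Twist.twistProjSpace n A 1) ≅
        Twist.twistOver n (Spec (CommRingCat.of A)) 1),
      ∀ i, τ.hom.app ⊤ (ProjUP.pullSec h.hom (Twist.twistProjSpace n A 1) (ProjUP.coord n A i)) =
        ProjUP.pullSec (pullback.fst (CohB1.ProjSpace.toSpec n (ULift.{u} ℤ))
          (specULiftZIsTerminal.from (Spec (CommRingCat.of A))))
          (Twist.twistProjSpace n (ULift.{u} ℤ) 1) (ProjUP.coord n (ULift.{u} ℤ) i) := by
  obtain ⟨rA, -, τA, hτA⟩ := Groth.Agent.S3572.result (R := ULift.{u} ℤ) n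
    (specULiftZIsTerminal.from (CohB1.ProjSpace n A)) (Twist.twistProjSpace n A 1)
    (isInvertible_twistProjSpace n A) (ProjUP.coord n A) (generatedBy_coord n A)
  let S := Spec (CommRingCat.of A)
  let π0 := CohB1.ProjSpace.toSpec n (ULift.{u} ℤ)
  let tS := specULiftZIsTerminal.from S
  let OZ := Twist.twistProjSpace n (ULift.{u} ℤ) 1
  let OA := Twist.twistProjSpace n A 1
  let p1 : CohB1.ProjSpaceOver n S ⟶ CohB1.ProjSpace n (ULift.{u} ℤ) := pullback.fst π0 tS
  let p2 : CohB1.ProjSpaceOver n S ⟶ S := pullback.snd π0 tS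
  let g : CohB1.ProjSpace n A ⟶ CohB1.ProjSpaceOver n S :=
    pullback.lift rA (CohB1.ProjSpace.toSpec n A) (specULiftZIsTerminal.hom_ext _ _)
  have hg1 : g ≫ p1 = rA := pullback.lift_fst _ _ _
  have hg2 : g ≫ p2 = CohB1.ProjSpace.toSpec n A := pullback.lift_snd _ _ _
  have hLS : PicF.IsInvertible ((Scheme.Modules.pullback p1).obj OZ) :=
    Groth.Agent.H67.AmplePullback.isInvertible_pullback _ (isInvertible_twistProjSpace n _)
  have hgenS : ProjUP.GeneratedBy ((Scheme.Modules.pullback p1).obj OZ)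
      (fun i => ProjUP.pullSec p1 OZ (ProjUP.coord n (ULift.{u} ℤ) i)) := by
    refine generatedBy_of_cover_genLocus _ hLS _ (fun x => ?_)
    obtain ⟨i, hi⟩ := exists_X_notMem n (ULift.{u} ℤ) (p1 x)
    refine ⟨i, ?_⟩
    have h1 := Groth.Agent.H67.PullGenLocus.genLocus_sectionHom_pullSect p1 OZ
      (isInvertible_twistProjSpace n _) (ProjUP.coord n (ULift.{u} ℤ) i)
    have h2 : x ∈ p1 ⁻¹ᵁ CohB1.genLocus OZ
        (sectionHom OZ (ProjUP.coord n (ULift.{u} ℤ) i)) := by
      change p1 x ∈ CohB1.genLocus OZ _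
      rw [genLocus_coord]
      exact hi
    rw [← h1] at h2
    exact h2
  obtain ⟨h, hh, τh, hτh⟩ := Groth.Agent.S3572.result (R := A) n
    (X := CohB1.ProjSpaceOver n S) p2 ((Scheme.Modules.pullback p1).obj OZ) hLS _ hgenS
  -- `h ≫ rA = p1`
  have hhr : h ≫ rA = p1 := by
    let τ1 : (Scheme.Modules.pullback (h ≫ rA)).obj OZ ≅ (Scheme.Modules.pullback p1).obj OZ :=
      (Scheme.Modules.pullbackComp h rA).symm.app OZ ≪≫
        (Scheme.Modules.pullback h).mapIso τA ≪≫ τh
    refine Groth.Agent.S3573.result n (h ≫ rA) p1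
      (specULiftZIsTerminal.hom_ext _ _) τ1 (fun i => ?_)
    change τh.hom.app ⊤ (((Scheme.Modules.pullback h).map τA.hom).app ⊤
      (((Scheme.Modules.pullbackComp h rA).inv.app OZ).app ⊤
        (ProjUP.pullSec (h ≫ rA) OZ (ProjUP.coord n (ULift.{u} ℤ) i)))) = _
    rw [pullSec_comp, pullSec_map, hτA, hτh]
  have hhg : h ≫ g = 𝟙 _ := by
    refine pullback.hom_ext ?_ ?_
    · exact (Category.assoc h g _).trans ((congrArg (fun z => h ≫ z) hg1).trans
        (hhr.trans (Category.id_comp _).symm))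
    · exact (Category.assoc h g _).trans ((congrArg (fun z => h ≫ z) hg2).trans
        (hh.trans (Category.id_comp _).symm))
  have hgh : g ≫ h = 𝟙 _ := by
    let τ2 : (Scheme.Modules.pullback (g ≫ h)).obj OA ≅
        (Scheme.Modules.pullback (𝟙 (CohB1.ProjSpace n A))).obj OA :=
      (Scheme.Modules.pullbackComp g h).symm.app OA ≪≫
        (Scheme.Modules.pullback g).mapIso τh ≪≫
        (Scheme.Modules.pullbackComp g p1).app OZ ≪≫
        (Scheme.Modules.pullbackCongr hg1).app OZ ≪≫ τA ≪≫
        ((Scheme.Modules.pullbackId (CohB1.ProjSpace n A)).app OA).symm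
    refine Groth.Agent.S3573.result n (g ≫ h) (𝟙 _)
      ((Category.assoc g h _).trans ((congrArg (fun z => g ≫ z) hh).trans
        (hg2.trans (Category.id_comp _).symm))) τ2 (fun i => ?_)
    change ((Scheme.Modules.pullbackId (CohB1.ProjSpace n A)).inv.app OA).app ⊤
      (τA.hom.app ⊤ (((Scheme.Modules.pullbackCongr hg1).hom.app OZ).app ⊤
        (((Scheme.Modules.pullbackComp g p1).hom.app OZ).app ⊤
          (((Scheme.Modules.pullback g).map τh.hom).app ⊤
            (((Scheme.Modules.pullbackComp g h).inv.app OA).app ⊤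
              (ProjUP.pullSec (g ≫ h) OA (ProjUP.coord n A i))))))) = _
    rw [pullSec_comp, pullSec_map, hτh, pullSec_comp', pullSec_congr, hτA]
    exact inv_app_of_hom_app ((Scheme.Modules.pullbackId (CohB1.ProjSpace n A)).app OA) _ _
      (pullSec_id OA (ProjUP.coord n A i))
  exact ⟨⟨h, g, hhg, hgh⟩, hh, τh, hτh⟩

end iso

end Groth.Agent.H18.VA
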