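import Groth.Agent.H18.VA.Assemble
import Groth.Agent.H67.TwistAllLarge

/-!
# Ample ⇒ eventually very ample (projective space form), for morphisms locally of finite type
(helper18)
-/

set_option autoImplicit false
set_option linter.style.haveILetI false
universe u
open CategoryTheory CategoryTheory.Limits AlgebraicGeometry TopologicalSpace Opposite

namespace Groth.Agent.H18.VA

open Groth.Agent.H18 Groth.Agent.H18.PUP Groth.Agent.H18.STL

variable {X S : Scheme.{u}}

/-- finitely many generators of the functions on an affine open over an affine open of the base -/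
theorem exists_finset_closure_eq_top (f : X ⟶ S) [LocallyOfFiniteType f]
    {U : X.Opens} {V : S.Opens} (hU : IsAffineOpen U) (hV : IsAffineOpen V) (h : U ≤ f ⁻¹ᵁ V) :
    ∃ Y : Finset Γ(X, U),
      Subring.closure ((Y : Set Γ(X, U)) ∪ Set.range (f.appLE V U h).hom) = ⊤ := by
  have h1 : (f.appLE V U h).hom.FiniteType :=
    HasRingHomProperty.appLE @LocallyOfFiniteType f inferInstance ⟨V, hV⟩ ⟨U, hU⟩ h
  letI := (f.appLE V U h).hom.toAlgebra
  have h2 : Algebra.FiniteType Γ(S, V) Γ(X, U) := h1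
  obtain ⟨Y, hY⟩ := h2.out
  refine ⟨Y, ?_⟩
  have h3 := Algebra.adjoin_eq_ring_closure (R := Γ(S, V)) (Y : Set Γ(X, U))
  have h4 : (Algebra.adjoin Γ(S, V) (Y : Set Γ(X, U))).toSubring = ⊤ := by
    rw [hY]; rfl
  rw [h3] at h4
  rw [Set.union_comm]
  exact h4

/-- a finite cover by affine opens `X_b` adapted to a cover of `X` and to affine opens of `S` -/
theorem exists_adapted_cover (f : X ⟶ S) {L : X.Modules} (hL : CohB1.IsAmple L) (𝔘 : Cover X) :
    ∃ (T : Finset X) (idx : X → 𝔘.ι) (V : X → S.Opens) (k : X → ℕ)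
      (b : ∀ x, Coh.structureModule X ⟶ CohB1.tensorPow L (k x + 1)),
      (∀ x, IsAffineOpen (V x)) ∧ (∀ x, IsAffineOpen (CohB1.genLocus _ (b x))) ∧
      (∀ x, CohB1.genLocus _ (b x) ≤ 𝔘.W (idx x)) ∧ (∀ x, CohB1.genLocus _ (b x) ≤ f ⁻¹ᵁ V x) ∧
      ∀ z : X, ∃ t ∈ T, z ∈ CohB1.genLocus _ (b t) := by
  classical
  haveI : CompactSpace X := hL.2.1
  choose idx hidx using 𝔘.cov
  have hV : ∀ x : X, ∃ V : S.Opens, IsAffineOpen V ∧ f x ∈ V := by
    intro x
    obtain ⟨V, hVaff, hxV, -⟩ := Opens.isBasis_iff_nbhd.1 S.isBasis_affineOpens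
      (show f x ∈ (⊤ : S.Opens) from trivial)
    exact ⟨V, hVaff, hxV⟩
  choose V hVaff hxV using hV
  choose k b hxb hble hbaff using fun x : X =>
    exists_genLocus_nhd_of_isAmple hL (𝔘.W (idx x) ⊓ f ⁻¹ᵁ V x) x ⟨hidx x, hxV x⟩
  obtain ⟨T, hT⟩ := CompactSpace.elim_nhds_subcover
    (fun x => ((CohB1.genLocus _ (b x) : X.Opens) : Set X))
    (fun x => (CohB1.genLocus _ (b x)).isOpen.mem_nhds (hxb x))
  refine ⟨T, idx, V, k, b, hVaff, hbaff, fun x => (hble x).trans inf_le_left,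
    fun x => (hble x).trans inf_le_right, fun z => ?_⟩
  have hz : z ∈ ⋃ x ∈ T, ((CohB1.genLocus _ (b x) : X.Opens) : Set X) := hT ▸ Set.mem_univ z
  simp only [Set.mem_iUnion, SetLike.mem_coe, exists_prop] at hz
  exact hz

/-- `L` ample on `X`, `f : X ⟶ S` locally of finite type, `M` invertible: for all large `d`, every
module with the cocycle of `L^d ⊗ M` is very ample relative to `f` -/
theorem exists_forall_isRelVeryAmplePn (f : X ⟶ S) [LocallyOfFiniteType f]
    {L M : X.Modules} (hL : CohB1.IsAmple L)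
    {𝔘 : Cover X} {c c' : 𝔘.Cocycle} {e : ∀ i, Γ(L, 𝔘.W i)} {e' : ∀ i, Γ(M, 𝔘.W i)}
    (hc : HasCocycle 𝔘 c L e) (hc' : HasCocycle 𝔘 c' M e') :
    ∃ d₀ : ℕ, ∀ d, d₀ ≤ d → ∀ (Q : X.Modules) (β : ∀ i, Γ(Q, 𝔘.W i)),
      HasCocycle 𝔘 (c ^ d * c') Q β → RelAmple.IsRelVeryAmplePn f Q := by
  classical
  haveI : CompactSpace X := hL.2.1
  haveI : QuasiSeparatedSpace X := quasiSeparatedSpace_of_cover hL.1 hL.2.2
  obtain ⟨T, idx, V, k, b, hVaff, hbaff, hbW, hbV, hcovT⟩ := exists_adapted_cover f hL 𝔘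
  choose Y hY using fun x => exists_finset_closure_eq_top f (hbaff x) (hVaff x) (hbV x)
  choose N hN using fun (x : X) (y : Γ(X, CohB1.genLocus _ (b x))) =>
    exists_coords_extension hc (k x + 1) (b x) (idx x) (hbW x) y
  obtain ⟨m₀, hm₀⟩ := Groth.Agent.H67.TwistAllLarge.exists_forall_large_pointwise hL
    hc'.isInvertible
  set kk := T.prod (fun t => k t + 1) with hkk
  have hkkpos : 0 < kk := Finset.prod_pos (fun t _ => Nat.succ_pos _)
  let jj : X → ℕ := fun x => (T.erase x).prod (fun t => k t + 1)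
  have hjjpos : ∀ x, 0 < jj x := fun x => Finset.prod_pos (fun t _ => Nat.succ_pos _)
  have hjj : ∀ t ∈ T, (k t + 1) * jj t = kk := fun t ht =>
    Finset.mul_prod_erase T (fun t => k t + 1) ht
  set NN := T.sup (fun t => (Y t).sup (N t)) with hNN
  refine ⟨kk * (NN + 1) + m₀, fun d hd Q β hQ => ?_⟩
  set n := (d - m₀) / kk with hn
  have hn1 : NN + 1 ≤ n := by
    rw [hn, Nat.le_div_iff_mul_le hkkpos]
    have : kk * (NN + 1) ≤ d - m₀ := by omega
    rw [mul_comm]; exact this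
  have hn2 : kk * n ≤ d - m₀ := Nat.mul_div_le _ _
  set m := d - kk * n with hm
  have hm1 : m₀ ≤ m := by omega
  have hm2 : kk * n + m = d := by omega
  choose u hu using hm₀ m hm1
  obtain ⟨Cc, hCc⟩ := CompactSpace.elim_nhds_subcover
    (fun z => ((CohB1.genLocus _ (u z) : X.Opens) : Set X))
    (fun z => (CohB1.genLocus _ (u z)).isOpen.mem_nhds (hu z))
  have hCc' : ∀ z : X, ∃ w ∈ Cc, z ∈ CohB1.genLocus _ (u w) := by
    intro z
    have hz : z ∈ ⋃ x ∈ Cc, ((CohB1.genLocus _ (u x) : X.Opens) : Set X) := hCc ▸ Set.mem_univ z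
    simp only [Set.mem_iUnion, SetLike.mem_coe, exists_prop] at hz
    exact hz
  let E : X → ℕ := fun x => jj x * n
  have hE : ∀ x, 0 < E x := fun x => Nat.mul_pos (hjjpos x) (by omega)
  have hNE : ∀ t ∈ T, ∀ y ∈ Y t, N t y ≤ E t := by
    intro t ht y hy
    have h1 : N t y ≤ (Y t).sup (N t) := Finset.le_sup hy
    have h2 : (Y t).sup (N t) ≤ NN := Finset.le_sup (f := fun t => (Y t).sup (N t)) ht
    have h3 : n ≤ jj t * n := Nat.le_mul_of_pos_left n (hjjpos t)
    change N t y ≤ jj t * n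
    omega
  let ry : ∀ x, Γ(X, CohB1.genLocus _ (b x)) → ∀ i, Γ(X, 𝔘.W i) := fun x y =>
    if h : N x y ≤ E x then Classical.choose (hN x y (E x) h) else 0
  have hry : ∀ t ∈ T, ∀ y ∈ Y t, IsCoordFam ((c ^ (k t + 1)) ^ E t) (ry t y) ∧
      rres X (hbW t) (ry t y (idx t)) =
        y * rres X (hbW t) ((hc.lpow (k t + 1)).coords (b t) (idx t)) ^ E t := by
    intro t ht y hy
    have h := hNE t ht y hy
    have hdef : ry t y = Classical.choose (hN t y (E t) h) := dif_pos h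
    rw [hdef]
    exact Classical.choose_spec (hN t y (E t) h)
  refine isRelVeryAmplePn_of_data f hc hc' hQ T idx V (fun x => k x + 1) b hVaff hbaff hbW hbV
    hcovT Y hY E hE m u Cc hCc' ?_ ry (fun t ht y hy => (hry t ht y hy).1)
    (fun t ht y hy => (hry t ht y hy).2)
  intro t ht
  change (c ^ (k t + 1)) ^ (jj t * n) * (c' * c ^ m) = c ^ d * c'
  have h1 : (k t + 1) * (jj t * n) = kk * n := by rw [← mul_assoc, hjj t ht]
  rw [← pow_mul, h1, ← hm2, pow_add]
  ring

end Groth.Agent.H18.VA
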