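import Mathlib

/-!
# Generation of the ring of a basic open by ratios (helper18)

If the basic opens `D(v c)` cover the affine open `U`, then the ring of functions on `D(v c₀)` is
generated by the restrictions of the functions on `U` and the ratios `v c / v c₀`.
-/

set_option autoImplicit false
universe u
open CategoryTheory CategoryTheory.Limits AlgebraicGeometry TopologicalSpace Opposite

namespace Groth.Agent.H18.VA

theorem closure_eq_top_of_basicOpen_cover {X : Scheme.{u}} {U V : X.Opens} (hU : IsAffineOpen U)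
    {C : Type*} [Fintype C] (v : C → Γ(X, U)) (hcov : ∀ x ∈ U, ∃ c, x ∈ X.basicOpen (v c))
    (c₀ : C) (hVU : V ≤ U) (hV : V = X.basicOpen (v c₀))
    (G : Set Γ(X, U)) (hG : Subring.closure G = ⊤) (ρ : C → Γ(X, V))
    (hρ : ∀ c, (X.presheaf.map (homOfLE hVU).op).hom (v c) =
      ρ c * (X.presheaf.map (homOfLE hVU).op).hom (v c₀)) :
    Subring.closure ((X.presheaf.map (homOfLE hVU).op).hom '' G ∪ Set.range ρ) = ⊤ := by
  classical
  set res : Γ(X, U) →+* Γ(X, V) := (X.presheaf.map (homOfLE hVU).op).hom with hres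
  letI : Algebra Γ(X, U) Γ(X, V) := res.toAlgebra
  haveI : IsLocalization.Away (v c₀) Γ(X, V) :=
    hU.isLocalization_of_eq_basicOpen (v c₀) (homOfLE hVU) hV
  set H := Subring.closure (res '' G ∪ Set.range ρ) with hH
  have ha : ∀ b : Γ(X, U), res b ∈ H := by
    intro b
    have hb : b ∈ Subring.closure G := by rw [hG]; trivial
    have h1 : res b ∈ (Subring.closure G).map res := ⟨b, hb, rfl⟩
    rw [RingHom.map_closure] at h1
    exact Subring.closure_mono Set.subset_union_left h1
  have hspan : Ideal.span (Set.range v) = ⊤ := by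
    rw [← hU.self_le_iSup_basicOpen_iff]
    intro x hx
    obtain ⟨c, hc⟩ := hcov x hx
    exact Opens.mem_iSup.2 ⟨⟨v c, c, rfl⟩, hc⟩
  obtain ⟨w, hw⟩ := (Ideal.mem_span_range_iff_exists_fun (R := Γ(X, U))).1
    (show (1 : Γ(X, U)) ∈ Ideal.span (Set.range v) by rw [hspan]; trivial)
  set inv : Γ(X, V) := IsLocalization.Away.invSelf (v c₀) with hinv
  have hmul : res (v c₀) * inv = 1 := IsLocalization.Away.mul_invSelf (v c₀)
  have hρ' : ∀ c, res (v c) * inv = ρ c := by
    intro c
    rw [hρ c, mul_assoc, hmul, mul_one]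
  have hinvH : inv ∈ H := by
    have h1 : inv = ∑ c, res (w c) * ρ c := by
      have h2 : res (∑ c, w c * v c) * inv = inv := by rw [hw, map_one, one_mul]
      rw [← h2, map_sum, Finset.sum_mul]
      refine Finset.sum_congr rfl fun c _ => ?_
      rw [map_mul, mul_assoc, hρ' c]
    rw [h1]
    refine Subring.sum_mem _ fun c _ => Subring.mul_mem _ (ha _) ?_
    exact Subring.subset_closure (Or.inr ⟨c, rfl⟩)
  rw [eq_top_iff]
  intro z _
  obtain ⟨⟨a, ⟨_, n, rfl⟩⟩, hz⟩ := IsLocalization.surj (Submonoid.powers (v c₀)) z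
  have hz' : z = res a * inv ^ n := by
    have h3 : z * res (v c₀) ^ n = res a := by
      simpa [RingHom.algebraMap_toAlgebra] using hz
    rw [← h3, mul_assoc, ← mul_pow, hmul, one_pow, mul_one]
  rw [hz']
  exact Subring.mul_mem _ (ha a) (Subring.pow_mem _ hinvH n)

end Groth.Agent.H18.VA
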