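import Groth.Agent.H18.VA.Coords
import Groth.Agent.H18.VA.LocalGen

/-!
# The ring of a chart `X_{a c₀}` is generated by ratios (helper18)
-/

set_option autoImplicit false
universe u
open CategoryTheory CategoryTheory.Limits AlgebraicGeometry TopologicalSpace Opposite

namespace Groth.Agent.H18.VA

open Groth.Agent.H18 Groth.Agent.H18.PUP Groth.Agent.H18.STL

variable {X : Scheme.{u}} {𝔘 : Cover X} {cQ : 𝔘.Cocycle} {Q : X.Modules} {β : ∀ i, Γ(Q, 𝔘.W i)}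

theorem basicOpen_rres {U V : X.Opens} (h : V ≤ U) (g : Γ(X, U)) :
    X.basicOpen (rres X h g) = V ⊓ X.basicOpen g := by
  rw [rres, Scheme.basicOpen_res]

theorem chart_closure_eq_top (hQ : HasCocycle 𝔘 cQ Q β) (i₀ : 𝔘.ι) {U : X.Opens}
    (hUaff : IsAffineOpen U) (hU : U ≤ 𝔘.W i₀)
    {C : Type*} [Fintype C] (a : C → (Coh.structureModule X ⟶ Q)) (γ : Γ(X, U)) (hγ : IsUnit γ)
    (v : C → Γ(X, U)) (ha : ∀ c, rres X hU (hQ.coords (a c) i₀) = γ * v c)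
    (hcov : ∀ x ∈ U, ∃ c, x ∈ X.basicOpen (v c)) (c₀ : C)
    (hU' : CohB1.genLocus Q (a c₀) ≤ U)
    (G₁ G₂ : Set Γ(X, U)) (hG : Subring.closure (G₁ ∪ G₂) = ⊤)
    (ag : G₁ → (Coh.structureModule X ⟶ Q))
    (hag : ∀ g : G₁, rres X hU (hQ.coords (ag g) i₀) = g.1 * γ * v c₀)
    (Ρ Ρ₂ : Set Γ(X, CohB1.genLocus Q (a c₀)))
    (h1 : ∀ c, ∃ ρ ∈ Ρ, SecTwist.val (a c) (CohB1.genLocus Q (a c₀)) =
      ρ • SecTwist.val (a c₀) (CohB1.genLocus Q (a c₀)))
    (h2 : ∀ g : G₁, ∃ ρ ∈ Ρ, SecTwist.val (ag g) (CohB1.genLocus Q (a c₀)) =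
      ρ • SecTwist.val (a c₀) (CohB1.genLocus Q (a c₀)))
    (h3 : ∀ g ∈ G₂, rres X hU' g ∈ Ρ₂) :
    Subring.closure (Ρ ∪ Ρ₂) = ⊤ := by
  classical
  set U' := CohB1.genLocus Q (a c₀) with hU'def
  have hU'W : U' ≤ 𝔘.W i₀ := hU'.trans hU
  -- `U'` is the basic open of `v c₀`
  have hUeq : U' = X.basicOpen (v c₀) := by
    have e1 := hQ.genLocus_inf (a c₀) i₀
    have e2 : X.basicOpen (rres X hU (hQ.coords (a c₀) i₀)) = U ⊓ X.basicOpen (hQ.coords (a c₀) i₀) :=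
      basicOpen_rres hU _
    rw [ha c₀, Scheme.basicOpen_mul, X.basicOpen_of_isUnit hγ, ← e1] at e2
    have e3 : U ⊓ X.basicOpen (v c₀) = X.basicOpen (v c₀) :=
      inf_eq_right.2 (X.basicOpen_le _)
    rw [e3] at e2
    rw [e2]
    apply le_antisymm
    · exact le_inf hU' (le_inf le_rfl hU'W)
    · exact inf_le_right.trans inf_le_left
  -- units on `U'`
  have hγ' : IsUnit (rres X hU' γ) := hγ.map (rres X hU').hom
  have hv₀ : IsUnit (rres X hU' (v c₀)) := by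
    rw [isUnit_res_iff_le_basicOpen hU' (v c₀)]
    exact hUeq.le
  -- the ratios
  choose ρ hρΡ hρ using h1
  have hρ' : ∀ c, rres X hU' (v c) = ρ c * rres X hU' (v c₀) := by
    intro c
    have e1 := coords_eq_of_val_eq_smul_val hQ (a c₀) (a c) i₀ hU'W (ρ c) (hρ c)
    have e2 : ∀ c', rres X hU'W (hQ.coords (a c') i₀) = rres X hU' γ * rres X hU' (v c') := by
      intro c'
      rw [← rres_rres hU hU', ha c', rres_mul]
    rw [e2 c, e2 c₀] at e1
    have e3 : rres X hU' γ * rres X hU' (v c) = rres X hU' γ * (ρ c * rres X hU' (v c₀)) := by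
      rw [e1]; ring
    exact hγ'.mul_left_cancel e3
  have key := closure_eq_top_of_basicOpen_cover hUaff v hcov c₀ hU' hUeq (G₁ ∪ G₂) hG ρ hρ'
  rw [eq_top_iff, ← key, Subring.closure_le]
  rintro _ (⟨g, hg, rfl⟩ | ⟨c, rfl⟩)
  · rcases hg with hg | hg
    · obtain ⟨ρg, hρgΡ, hρg⟩ := h2 ⟨g, hg⟩
      have e1 := coords_eq_of_val_eq_smul_val hQ (a c₀) (ag ⟨g, hg⟩) i₀ hU'W ρg hρg
      have e2 : rres X hU'W (hQ.coords (a c₀) i₀) = rres X hU' γ * rres X hU' (v c₀) := by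
        rw [← rres_rres hU hU', ha c₀, rres_mul]
      have e3 : rres X hU'W (hQ.coords (ag ⟨g, hg⟩) i₀) =
          rres X hU' g * (rres X hU' γ * rres X hU' (v c₀)) := by
        rw [← rres_rres hU hU', hag ⟨g, hg⟩, rres_mul, rres_mul, mul_assoc]
      rw [e2, e3] at e1
      have e4 : rres X hU' g = ρg := (hγ'.mul hv₀).mul_right_cancel e1
      change rres X hU' g ∈ _
      rw [e4]
      exact Subring.subset_closure (Or.inl hρgΡ)
    · exact Subring.subset_closure (Or.inr (h3 g hg))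
  · exact Subring.subset_closure (Or.inl (hρΡ c))

end Groth.Agent.H18.VA
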