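import Groth.Agent.H18.VA.Coords
import Groth.Agent.H18.STL.Extend3

/-!
# Sections with prescribed coordinates: products, and extension of functions from `X_b` (helper18)
-/

set_option autoImplicit false
universe u
open CategoryTheory CategoryTheory.Limits AlgebraicGeometry TopologicalSpace Opposite

namespace Groth.Agent.H18.VA

open Groth.Agent.H18 Groth.Agent.H18.PUP Groth.Agent.H18.STL

variable {X : Scheme.{u}} {𝔘 : Cover X}

/-- a coordinate family of weight `c` -/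
def IsCoordFam (c : 𝔘.Cocycle) (r : ∀ i, Γ(X, 𝔘.W i)) : Prop :=
  ∀ i j, rres X (inf_le_left : 𝔘.W i ⊓ 𝔘.W j ≤ 𝔘.W i) (r i) =
    rres X (inf_le_right : 𝔘.W i ⊓ 𝔘.W j ≤ 𝔘.W j) (r j) * c i j

theorem IsCoordFam.mul {c₁ c₂ : 𝔘.Cocycle} {r₁ r₂ : ∀ i, Γ(X, 𝔘.W i)}
    (h₁ : IsCoordFam c₁ r₁) (h₂ : IsCoordFam c₂ r₂) :
    IsCoordFam (c₁ * c₂) (fun i => r₁ i * r₂ i) := by
  intro i j
  rw [rres_mul, rres_mul, h₁ i j, h₂ i j, Pi.mul_apply, Pi.mul_apply]
  ring

theorem IsCoordFam.pow {c₁ : 𝔘.Cocycle} {r₁ : ∀ i, Γ(X, 𝔘.W i)}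
    (h₁ : IsCoordFam c₁ r₁) (n : ℕ) : IsCoordFam (c₁ ^ n) (fun i => r₁ i ^ n) := by
  intro i j
  rw [rres_pow, rres_pow, h₁ i j, Pi.pow_apply, Pi.pow_apply, mul_pow]

theorem isCoordFam_coords {c : 𝔘.Cocycle} {Q : X.Modules} {β : ∀ i, Γ(Q, 𝔘.W i)}
    (h : HasCocycle 𝔘 c Q β) (a : Coh.structureModule X ⟶ Q) : IsCoordFam c (h.coords a) :=
  fun i j => h.coords_trans a i j

/-- a section with prescribed coordinates -/
theorem exists_section_of_isCoordFam {c : 𝔘.Cocycle} {Q : X.Modules} {β : ∀ i, Γ(Q, 𝔘.W i)}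
    (h : HasCocycle 𝔘 c Q β) {c' : 𝔘.Cocycle} (hcc : c' = c) (r : ∀ i, Γ(X, 𝔘.W i))
    (hr : IsCoordFam c' r) :
    ∃ a : Coh.structureModule X ⟶ Q, ∀ i, h.coords a i = r i := by
  subst hcc
  obtain ⟨a, ha⟩ := h.exists_of_coords r hr
  exact ⟨a, fun i => (h.coords_unique a i _ (ha i)).symm⟩

/-- extension of a function on `X_b` to a coordinate family, after multiplication by a power of
`b` -/
theorem exists_coords_extension [CompactSpace X] [QuasiSeparatedSpace X] {L : X.Modules}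
    {c : 𝔘.Cocycle} {e : ∀ i, Γ(L, 𝔘.W i)} (hc : HasCocycle 𝔘 c L e) (k : ℕ)
    (b : Coh.structureModule X ⟶ CohB1.tensorPow L k) (i₀ : 𝔘.ι)
    (hU : CohB1.genLocus _ b ≤ 𝔘.W i₀) (y : Γ(X, CohB1.genLocus _ b)) :
    ∃ N : ℕ, ∀ n, N ≤ n → ∃ r : ∀ i, Γ(X, 𝔘.W i), IsCoordFam ((c ^ k) ^ n) r ∧
      rres X hU (r i₀) = y * rres X hU ((hc.lpow k).coords b i₀) ^ n := by
  have hLk : PicF.IsInvertible (CohB1.tensorPow L k) := (hc.lpow k).isInvertible
  haveI := isQuasicoherent_structureModule X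
  obtain ⟨N, hN⟩ := exists_extension_of_le hLk b (Coh.structureModule X)
    (show Γ(Coh.structureModule X, CohB1.genLocus _ b) from y)
  refine ⟨N, fun n hn => ?_⟩
  obtain ⟨t', ht'⟩ := hN n hn
  have w := (hasCocycle_unit 𝔘).tmul ((hc.lpow k).lpow n)
  have hone : (1 : 𝔘.Cocycle) * (c ^ k) ^ n = (c ^ k) ^ n := one_mul _
  rw [hone] at w
  refine ⟨w.coords (sectionHom _ t'), isCoordFam_coords w _, ?_⟩
  -- the local computation
  have hval : SecTwist.val b (CohB1.genLocus _ b) = rres X hU ((hc.lpow k).coords b i₀) •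
      mres (CohB1.tensorPow L k) hU (lpow L (𝔘.W i₀) (e i₀) k) :=
    val_eq_coords_smul (hc.lpow k) b i₀ hU
  have h1 : SecTwist.val (sectionHom _ t') (CohB1.genLocus _ b) =
      SecTwist.twist b n (Coh.structureModule X) (CohB1.genLocus _ b)
        (show Γ(Coh.structureModule X, CohB1.genLocus _ b) from y) := by
    rw [val_sectionHom]; exact ht'
  rw [twist_eq_tmul_lpow b (CohB1.genLocus _ b) _ _ hval n (Coh.structureModule X)] at h1
  have h2 : (rres X hU ((hc.lpow k).coords b i₀) ^ n •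
      (show Γ(Coh.structureModule X, CohB1.genLocus _ b) from y) :
        Γ(Coh.structureModule X, CohB1.genLocus _ b)) =
      (y * rres X hU ((hc.lpow k).coords b i₀) ^ n) • oneSec X (CohB1.genLocus _ b) := by
    change rres X hU ((hc.lpow k).coords b i₀) ^ n * y =
      (y * rres X hU ((hc.lpow k).coords b i₀) ^ n) * 1
    ring
  rw [h2, tmul_smul_left] at h1
  have h3 := val_eq_coords_smul w (sectionHom _ t') i₀ hU
  have h4 : mres (CohB1.tensorMod (Coh.structureModule X)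
        (CohB1.tensorPow (CohB1.tensorPow L k) n)) hU
      (SecTwist.tmul (Coh.structureModule X)
        (CohB1.tensorPow (CohB1.tensorPow L k) n) (𝔘.W i₀) (oneSec X (𝔘.W i₀))
        (lpow (CohB1.tensorPow L k) (𝔘.W i₀) (lpow L (𝔘.W i₀) (e i₀) k) n)) =
      SecTwist.tmul (Coh.structureModule X) (CohB1.tensorPow (CohB1.tensorPow L k) n)
        (CohB1.genLocus _ b) (oneSec X (CohB1.genLocus _ b))
        (lpow (CohB1.tensorPow L k) (CohB1.genLocus _ b)
          (mres (CohB1.tensorPow L k) hU (lpow L (𝔘.W i₀) (e i₀) k)) n) := by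
    rw [mres_tmul, mres_oneSec, mres_lpow]
  have hb := ((w.basis i₀) (CohB1.genLocus _ b) hU).1
  rw [h4] at h3 hb
  exact hb (h3.symm.trans h1)

end Groth.Agent.H18.VA
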