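import Groth.Agent.H18.VA.Main
import Groth.Agent.H18.VA.Chart
import Groth.Agent.H18.VA.CoordsExt

/-!
# Assembling the sections: very ampleness from the data of an adapted cover (helper18)
-/

set_option autoImplicit false
set_option linter.style.haveILetI false
universe u
open CategoryTheory CategoryTheory.Limits AlgebraicGeometry TopologicalSpace Opposite

namespace Groth.Agent.H18.VA

open Groth.Agent.H18 Groth.Agent.H18.PUP Groth.Agent.H18.STL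

variable {X S : Scheme.{u}} {𝔘 : Cover X}

set_option maxHeartbeats 1600000 in
theorem isRelVeryAmplePn_of_data (f : X ⟶ S) {L M Q : X.Modules}
    {c c' cQ : 𝔘.Cocycle} {e : ∀ i, Γ(L, 𝔘.W i)} {e' : ∀ i, Γ(M, 𝔘.W i)} {β : ∀ i, Γ(Q, 𝔘.W i)}
    (hc : HasCocycle 𝔘 c L e) (hc' : HasCocycle 𝔘 c' M e') (hQ : HasCocycle 𝔘 cQ Q β)
    (T : Finset X) (idx : X → 𝔘.ι) (V : X → S.Opens) (kt : X → ℕ)
    (b : ∀ x, Coh.structureModule X ⟶ CohB1.tensorPow L (kt x))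
    (hVaff : ∀ x, IsAffineOpen (V x)) (hbaff : ∀ x, IsAffineOpen (CohB1.genLocus _ (b x)))
    (hbW : ∀ x, CohB1.genLocus _ (b x) ≤ 𝔘.W (idx x))
    (hbV : ∀ x, CohB1.genLocus _ (b x) ≤ f ⁻¹ᵁ V x)
    (hcovT : ∀ z : X, ∃ t ∈ T, z ∈ CohB1.genLocus _ (b t))
    (Y : ∀ x, Finset Γ(X, CohB1.genLocus _ (b x)))
    (hY : ∀ x, Subring.closure (((Y x : Finset _) : Set Γ(X, CohB1.genLocus _ (b x))) ∪
      Set.range (f.appLE (V x) _ (hbV x)).hom) = ⊤)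
    (E : X → ℕ) (hE : ∀ x, 0 < E x) (m : ℕ)
    (u : X → (Coh.structureModule X ⟶ CohB1.tensorMod M (CohB1.tensorPow L m)))
    (Cc : Finset X) (hCc : ∀ z : X, ∃ w ∈ Cc, z ∈ CohB1.genLocus _ (u w))
    (hweight : ∀ t ∈ T, (c ^ kt t) ^ E t * (c' * c ^ m) = cQ)
    (ry : ∀ x, Γ(X, CohB1.genLocus _ (b x)) → ∀ i, Γ(X, 𝔘.W i))
    (hry1 : ∀ t ∈ T, ∀ y ∈ Y t, IsCoordFam ((c ^ kt t) ^ E t) (ry t y))
    (hry2 : ∀ t ∈ T, ∀ y ∈ Y t, rres X (hbW t) (ry t y (idx t)) =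
      y * rres X (hbW t) ((hc.lpow (kt t)).coords (b t) (idx t)) ^ E t) :
    RelAmple.IsRelVeryAmplePn f Q := by
  classical
  have wM := hc'.tmul (hc.lpow m)
  have hMinv : PicF.IsInvertible (CohB1.tensorMod M (CohB1.tensorPow L m)) := wM.isInvertible
  -- the sections
  have hex₁ : ∀ (t : T) (z : Cc), ∃ a : Coh.structureModule X ⟶ Q, ∀ i, hQ.coords a i =
      (hc.lpow (kt t.1)).coords (b t.1) i ^ E t.1 * wM.coords (u z.1) i := fun t z =>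
    exists_section_of_isCoordFam hQ (hweight t.1 t.2) _
      (((isCoordFam_coords (hc.lpow (kt t.1)) (b t.1)).pow (E t.1)).mul
        (isCoordFam_coords wM (u z.1)))
  have hex₂ : ∀ (t : T) (y : Y t.1) (z : Cc), ∃ a : Coh.structureModule X ⟶ Q,
      ∀ i, hQ.coords a i = ry t.1 y.1 i * wM.coords (u z.1) i := fun t y z =>
    exists_section_of_isCoordFam hQ (hweight t.1 t.2) _
      ((hry1 t.1 t.2 y.1 y.2).mul (isCoordFam_coords wM (u z.1)))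
  choose a₁ ha₁ using hex₁
  choose a₂ ha₂ using hex₂
  let J := Option (Σ t : T, Cc ⊕ (Y t.1 × Cc))
  let a : J → (Coh.structureModule X ⟶ Q) := fun j =>
    match j with
    | none => 0
    | some ⟨t, Sum.inl z⟩ => a₁ t z
    | some ⟨t, Sum.inr (y, z)⟩ => a₂ t y z
  let K : Set J := Set.range (fun p : T × Cc => (some ⟨p.1, Sum.inl p.2⟩ : J))
  let VV : J → S.Opens := fun j =>
    match j with
    | none => ⊥
    | some ⟨t, _⟩ => V t.1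
  have hgl : ∀ (t : T) (z : Cc), CohB1.genLocus Q (a₁ t z) =
      CohB1.genLocus _ (b t.1) ⊓ CohB1.genLocus _ (u z.1) := fun t z =>
    genLocus_eq_inf_of_coords hQ (hc.lpow (kt t.1)) wM (a₁ t z) (b t.1) (u z.1) (E t.1)
      (hE t.1) (ha₁ t z)
  haveI : Nonempty J := ⟨none⟩
  refine isRelVeryAmplePn_of_homs f Q hQ.isInvertible a K VV ?_ ?_ ?_ ?_ ?_
  · intro x
    obtain ⟨t, ht, hxt⟩ := hcovT x
    obtain ⟨w, hw, hxw⟩ := hCc x
    refine ⟨some ⟨⟨t, ht⟩, Sum.inl ⟨w, hw⟩⟩, ⟨(⟨t, ht⟩, ⟨w, hw⟩), rfl⟩, ?_⟩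
    change x ∈ CohB1.genLocus Q (a₁ ⟨t, ht⟩ ⟨w, hw⟩)
    rw [hgl]
    exact ⟨hxt, hxw⟩
  · rintro _ ⟨⟨t, z⟩, rfl⟩
    change IsAffineOpen (CohB1.genLocus Q (a₁ t z))
    rw [hgl, inf_comm]
    exact isAffineOpen_genLocus_inf hMinv (u z.1) (hbaff t.1)
  · rintro _ ⟨⟨t, z⟩, rfl⟩
    exact hVaff t.1
  · rintro _ ⟨⟨t, z⟩, rfl⟩
    change CohB1.genLocus Q (a₁ t z) ≤ f ⁻¹ᵁ V t.1
    rw [hgl]
    exact inf_le_left.trans (hbV t.1)
  · rintro _ ⟨⟨t, z₀⟩, rfl⟩ ρ hρ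
    have hU' : CohB1.genLocus Q (a₁ t z₀) ≤ CohB1.genLocus _ (b t.1) := by
      rw [hgl]; exact inf_le_left
    have hble : CohB1.genLocus _ (b t.1) ≤
        X.basicOpen ((hc.lpow (kt t.1)).coords (b t.1) (idx t.1)) := by
      rw [← (hc.lpow (kt t.1)).genLocus_inf (b t.1) (idx t.1)]
      exact le_inf le_rfl (hbW t.1)
    have hγ : IsUnit (rres X (hbW t.1) ((hc.lpow (kt t.1)).coords (b t.1) (idx t.1)) ^ E t.1) :=
      ((isUnit_res_iff_le_basicOpen (hbW t.1) _).2 hble).pow _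
    refine chart_closure_eq_top hQ (idx t.1) (hbaff t.1) (hbW t.1) (C := Cc)
      (fun z => a₁ t z)
      (rres X (hbW t.1) ((hc.lpow (kt t.1)).coords (b t.1) (idx t.1)) ^ E t.1) hγ
      (fun z => rres X (hbW t.1) (wM.coords (u z.1) (idx t.1))) ?_ ?_ z₀ hU'
      ((Y t.1 : Finset _) : Set Γ(X, CohB1.genLocus _ (b t.1)))
      (Set.range (f.appLE (V t.1) _ (hbV t.1)).hom) (hY t.1)
      (fun g => a₂ t ⟨g.1, g.2⟩ z₀) ?_ (Set.range ρ) _ ?_ ?_ ?_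
    · intro z
      rw [ha₁ t z, rres_mul, rres_pow]
    · intro x hx
      obtain ⟨w, hw, hxw⟩ := hCc x
      refine ⟨⟨w, hw⟩, ?_⟩
      rw [basicOpen_rres, ← wM.genLocus_inf (u w) (idx t.1)]
      exact ⟨hx, hxw, hbW t.1 hx⟩
    · intro g
      rw [ha₂ t ⟨g.1, g.2⟩ z₀, rres_mul, hry2 t.1 t.2 g.1 g.2]
    · intro z
      exact ⟨ρ (some ⟨t, Sum.inl z⟩), ⟨_, rfl⟩, hρ (some ⟨t, Sum.inl z⟩)⟩
    · intro g
      exact ⟨ρ (some ⟨t, Sum.inr (⟨g.1, g.2⟩, z₀)⟩), ⟨_, rfl⟩,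
        hρ (some ⟨t, Sum.inr (⟨g.1, g.2⟩, z₀)⟩)⟩
    · rintro _ ⟨w, rfl⟩
      refine ⟨w, ?_⟩
      change _ = (X.presheaf.map (homOfLE hU').op).hom ((f.appLE (V t.1) _ (hbV t.1)).hom w)
      rw [← RingHom.comp_apply, ← CommRingCat.hom_comp, Scheme.Hom.appLE_map]

end Groth.Agent.H18.VA
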