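import Groth.Agent.H18.VA.Ample
import Groth.Agent.H18.STL.PullQuasiAffine
import Groth.Agent.H18.STL.AmplePow
import Groth.Agent.H18.STL.Inverse
import Groth.Agent.H18.TwistGenCover
import Groth.Agent.H67.AmplePullback

/-!
# Very ample (projective space form) over an affine base implies ample (helper18)
-/

set_option autoImplicit false
set_option linter.style.haveILetI false
universe u
open CategoryTheory CategoryTheory.Limits AlgebraicGeometry TopologicalSpace Opposite

namespace Groth.Agent.H18.VA

open Groth.Agent.H18 Groth.Agent.H18.PUP Groth.Agent.H18.STL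

/-- `O(1)` on projective space over a ring is ample -/
theorem isAmple_twistProjSpace (n : ℕ) (R : Type u) [CommRing R] :
    CohB1.IsAmple (Twist.twistProjSpace n R 1) := by
  have hcov : ∀ x : ProjectiveSpectrum (CohB1.polyGrading n R),
      ∃ b : MvPolynomial (Fin (n + 1)) R, b ∈ CohB1.polyGrading n R 1 ∧
        b ∉ x.asHomogeneousIdeal := by
    intro x
    obtain ⟨i, hi⟩ := exists_notMem_of_adjoin_eq_top (CohB1.polyGrading n R)
      (fun i : Fin (n + 1) => (MvPolynomial.X i : MvPolynomial (Fin (n + 1)) R))
      (MvPolynomial.adjoin_range_X) x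
    exact ⟨MvPolynomial.X i, X_mem R n i, hi⟩
  haveI : CompactSpace (Proj (CohB1.polyGrading n R)) := by
    constructor
    have hun : (Set.univ : Set (Proj (CohB1.polyGrading n R))) =
        ⋃ i : Fin (n + 1), ((Proj.basicOpen (CohB1.polyGrading n R)
          (MvPolynomial.X i : MvPolynomial (Fin (n + 1)) R) :
            (Proj (CohB1.polyGrading n R)).Opens) : Set (Proj (CohB1.polyGrading n R))) := by
      ext x
      simp only [Set.mem_univ, Set.mem_iUnion, true_iff]
      obtain ⟨i, hi⟩ := exists_notMem_of_adjoin_eq_top (CohB1.polyGrading n R)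
        (fun i : Fin (n + 1) => (MvPolynomial.X i : MvPolynomial (Fin (n + 1)) R))
        (MvPolynomial.adjoin_range_X) x
      exact ⟨i, hi⟩
    rw [hun]
    exact isCompact_iUnion (fun i =>
      (Proj.isAffineOpen_basicOpen (CohB1.polyGrading n R) (MvPolynomial.X i)
        (X_mem R n i) one_pos).isCompact)
  have h := isAmple_twist (CohB1.polyGrading n R) 1 one_pos hcov
  rw [Nat.cast_one] at h
  exact h

/-- `O(1)` on projective space over an affine scheme is ample -/
theorem isAmple_twistOver (n : ℕ) (S : Scheme.{u}) [IsAffine S] :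
    CohB1.IsAmple (Twist.twistOver n S 1) := by
  let π0 := CohB1.ProjSpace.toSpec n (ULift.{u} ℤ)
  let tS := specULiftZIsTerminal.from S
  haveI : IsAffineHom tS := inferInstance
  haveI : IsAffineHom (pullback.fst π0 tS) :=
    MorphismProperty.pullback_fst (P := @IsAffineHom) π0 tS inferInstance
  refine isAmple_pullback_of_isQuasiAffine (pullback.fst π0 tS) inferInstance (fun V hV => ?_)
    (isAmple_twistProjSpace n (ULift.{u} ℤ))
  haveI : IsAffine ((pullback.fst π0 tS ⁻¹ᵁ V : (pullback π0 tS).Opens) : Scheme.{u}) :=
    hV.preimage (pullback.fst π0 tS)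
  infer_instance

/-- over an affine base, a module with a very ample (projective space form) positive power is
ample -/
theorem isAmple_of_isRelVeryAmplePn_tensorPow {X Y : Scheme.{u}} [IsAffine Y] (q : X ⟶ Y)
    [QuasiCompact q] {L : X.Modules} (hL : PicF.IsInvertible L) {n : ℕ} (hn : 0 < n)
    (h : RelAmple.IsRelVeryAmplePn q (CohB1.tensorPow L n)) : CohB1.IsAmple L := by
  obtain ⟨m, i, hi, hiq, ⟨e⟩⟩ := h
  haveI : CompactSpace X := by
    have := QuasiCompact.isCompact_preimage (f := q) _ isOpen_univ (CompactSpace.isCompact_univ)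
    rw [Set.preimage_univ] at this
    exact ⟨this⟩
  have h1 := Groth.Agent.H67.AmplePullback.isAmple_pullback_of_isEmbedding i
    (Scheme.Hom.isEmbedding i) (Twist.twistOver m Y 1) (isAmple_twistOver m Y)
  have h2 := isAmple_of_iso e.symm h1
  exact (isAmple_tensorPow_iff hL hn).2 h2

end Groth.Agent.H18.VA
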