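import Groth.Agent.H18.STL.PullCocycle

/-!
# Sections of modules with a cocycle, in coordinates (helper18)
-/

set_option autoImplicit false
universe u
open CategoryTheory CategoryTheory.Limits AlgebraicGeometry TopologicalSpace Opposite

namespace Groth.Agent.H18.VA

open Groth.Agent.H18 Groth.Agent.H18.PUP Groth.Agent.H18.STL

variable {X : Scheme.{u}}

/-- a morphism `O ⟶ Q` is determined by its value on `1 ∈ Γ(X, ⊤)` -/
theorem sectionHom_val_top {Q : X.Modules} (a : Coh.structureModule X ⟶ Q) :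
    sectionHom Q (SecTwist.val a ⊤) = a := by
  apply Groth.Agent.H54.PB.evOne_injective
  have h1 := val_sectionHom Q (SecTwist.val a ⊤) ⊤
  rw [mres_self] at h1
  exact h1

variable {𝔘 : Cover X} {c : 𝔘.Cocycle} {Q : X.Modules} {β : ∀ i, Γ(Q, 𝔘.W i)}

/-- the value of a section on an open inside a member of the cover, in coordinates -/
theorem val_eq_coords_smul (h : HasCocycle 𝔘 c Q β) (a : Coh.structureModule X ⟶ Q) (i : 𝔘.ι)
    {U : X.Opens} (hU : U ≤ 𝔘.W i) :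
    SecTwist.val a U = rres X hU (h.coords a i) • mres Q hU (β i) := by
  rw [← mres_val a hU, h.coords_spec a i, mres_smul]

/-- ratios of sections can be read off from the coordinates -/
theorem val_eq_smul_val_of_coords (h : HasCocycle 𝔘 c Q β) (a a' : Coh.structureModule X ⟶ Q)
    (i : 𝔘.ι) {U : X.Opens} (hU : U ≤ 𝔘.W i) (ρ : Γ(X, U))
    (hρ : rres X hU (h.coords a' i) = ρ * rres X hU (h.coords a i)) :
    SecTwist.val a' U = ρ • SecTwist.val a U := by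
  have h1 := val_eq_coords_smul h a' i hU
  have h2 := val_eq_coords_smul h a i hU
  rw [hρ] at h1
  exact h1.trans ((mul_smul ρ _ _).trans (congrArg (fun z => ρ • z) h2.symm))

/-- conversely -/
theorem coords_eq_of_val_eq_smul_val (h : HasCocycle 𝔘 c Q β) (a a' : Coh.structureModule X ⟶ Q)
    (i : 𝔘.ι) {U : X.Opens} (hU : U ≤ 𝔘.W i) (ρ : Γ(X, U))
    (hρ : SecTwist.val a' U = ρ • SecTwist.val a U) :
    rres X hU (h.coords a' i) = ρ * rres X hU (h.coords a i) := by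
  have h1 := val_eq_coords_smul h a' i hU
  have h2 := val_eq_coords_smul h a i hU
  have h3 : rres X hU (h.coords a' i) • mres Q hU (β i) =
      (ρ * rres X hU (h.coords a i)) • mres Q hU (β i) :=
    h1.symm.trans (hρ.trans ((congrArg (fun z => ρ • z) h2).trans (mul_smul ρ _ _).symm))
  have hb := (h.basis i) U hU
  exact hb.1 h3

/-- the locus of generation of a section whose coordinates are products -/
theorem genLocus_eq_inf_of_coords {c₁ c₂ : 𝔘.Cocycle} {Q₁ Q₂ : X.Modules}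
    {β₁ : ∀ i, Γ(Q₁, 𝔘.W i)} {β₂ : ∀ i, Γ(Q₂, 𝔘.W i)}
    (h : HasCocycle 𝔘 c Q β) (h₁ : HasCocycle 𝔘 c₁ Q₁ β₁) (h₂ : HasCocycle 𝔘 c₂ Q₂ β₂)
    (a : Coh.structureModule X ⟶ Q) (a₁ : Coh.structureModule X ⟶ Q₁)
    (a₂ : Coh.structureModule X ⟶ Q₂) (n : ℕ) (hn : 0 < n)
    (hcoord : ∀ i, h.coords a i = h₁.coords a₁ i ^ n * h₂.coords a₂ i) :
    CohB1.genLocus Q a = CohB1.genLocus Q₁ a₁ ⊓ CohB1.genLocus Q₂ a₂ := by
  ext x
  obtain ⟨i, hi⟩ := 𝔘.cov x
  have e := h.genLocus_inf a i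
  have e₁ := h₁.genLocus_inf a₁ i
  have e₂ := h₂.genLocus_inf a₂ i
  rw [hcoord i, Scheme.basicOpen_mul, X.basicOpen_pow _ hn] at e
  constructor
  · intro hx
    have hx' : x ∈ CohB1.genLocus Q a ⊓ 𝔘.W i := ⟨hx, hi⟩
    rw [e, ← e₁, ← e₂] at hx'
    exact ⟨hx'.1.1, hx'.2.1⟩
  · rintro ⟨hx1, hx2⟩
    have hx' : x ∈ (CohB1.genLocus Q₁ a₁ ⊓ 𝔘.W i) ⊓ (CohB1.genLocus Q₂ a₂ ⊓ 𝔘.W i) :=
      ⟨⟨hx1, hi⟩, ⟨hx2, hi⟩⟩
    rw [e₁, e₂, ← e] at hx'
    exact hx'.1

end Groth.Agent.H18.VA
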