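import Mathlib

/-!
# A criterion for immersions (helper18)

`i : X ⟶ P` is an immersion as soon as there are affine opens `W k` of `P` with affine preimages
covering `X` such that `i` is surjective on sections over each `W k`.
-/

set_option autoImplicit false
universe u
open CategoryTheory CategoryTheory.Limits AlgebraicGeometry TopologicalSpace Opposite

namespace Groth.Agent.H18.VA

variable {X P : Scheme.{u}}

/-- a morphism which is surjective on sections over an affine open with affine preimage restricts
to a closed immersion over it -/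
theorem isClosedImmersion_morphismRestrict (i : X ⟶ P) (W : P.Opens) (hW : IsAffineOpen W)
    (hU : IsAffineOpen (i ⁻¹ᵁ W)) (hsurj : Function.Surjective (i.app W).hom) :
    IsClosedImmersion (i ∣_ W) := by
  haveI : IsAffine (W : Scheme.{u}) := hW
  haveI : IsAffine ((i ⁻¹ᵁ W : X.Opens) : Scheme.{u}) := hU
  refine IsClosedImmersion.of_surjective_of_isAffine _ ?_
  rw [morphismRestrict_appTop]
  have h1 : Function.Surjective (i.app (W.ι ''ᵁ ⊤)).hom := by
    have hWW : W.ι ''ᵁ ⊤ = W := by simp
    rw [hWW]
    exact hsurj
  have h2 : Function.Bijective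
      (X.presheaf.map (eqToHom (image_morphismRestrict_preimage i W ⊤)).op).hom :=
    ConcreteCategory.bijective_of_isIso _
  exact h2.surjective.comp h1

/-- criterion for immersions -/
theorem isImmersion_of_affine_cover (i : X ⟶ P) {κ : Type*} (W : κ → P.Opens)
    (hW : ∀ k, IsAffineOpen (W k)) (hU : ∀ k, IsAffineOpen (i ⁻¹ᵁ W k))
    (hsurj : ∀ k, Function.Surjective (i.app (W k)).hom)
    (hcov : ∀ x : X, ∃ k, i x ∈ W k) : IsImmersion i := by
  haveI : MorphismProperty.RespectsRight @IsImmersion @IsOpenImmersion :=
    ⟨fun j hj f hf => by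
      haveI : IsOpenImmersion j := hj
      haveI : IsImmersion f := hf
      infer_instance⟩
  refine IsZariskiLocalAtTarget.of_range_subset_iSup (P := @IsImmersion) W ?_ (fun k => ?_)
  · rintro _ ⟨x, rfl⟩
    obtain ⟨k, hk⟩ := hcov x
    exact Opens.mem_iSup.2 ⟨k, hk⟩
  · haveI := isClosedImmersion_morphismRestrict i (W k) (hW k) (hU k) (hsurj k)
    infer_instance

end Groth.Agent.H18.VA
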