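import Mathlib

/-!
# Affine opens of fibre products over an affine base, and sections over them (helper18)
-/

set_option autoImplicit false
universe u
open CategoryTheory CategoryTheory.Limits AlgebraicGeometry TopologicalSpace Opposite

namespace Groth.Agent.H18.VA

/-- over an affine base, the "product" of two affine opens is affine -/
theorem isAffineOpen_pullback_inf {X Y Z : Scheme.{u}} [IsAffine Z] (f : X ⟶ Z) (g : Y ⟶ Z)
    {U : X.Opens} (hU : IsAffineOpen U) {V : Y.Opens} (hV : IsAffineOpen V) :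
    IsAffineOpen (pullback.fst f g ⁻¹ᵁ U ⊓ pullback.snd f g ⁻¹ᵁ V) := by
  have : IsAffine U.toScheme := hU
  have : IsAffine V.toScheme := hV
  let p : pullback (U.ι ≫ f) (V.ι ≫ g) ⟶ pullback f g :=
    pullback.map _ _ _ _ U.ι V.ι (𝟙 Z) (by simp) (by simp)
  have hp : IsOpenImmersion p := inferInstance
  have h := isAffineOpen_opensRange p
  convert h
  ext x
  simp [p, Scheme.Pullback.range_map]

/-- a morphism into a fibre product is surjective on sections over a "product" open as soon as the
sections over the preimage are generated by the pullbacks of sections of the two factors -/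
theorem surjective_app_of_closure {T X Y Z : Scheme.{u}} (f : X ⟶ Z) (g : Y ⟶ Z)
    (i : T ⟶ pullback f g) (U : X.Opens) (V : Y.Opens)
    (h : ∀ y : Γ(T, i ⁻¹ᵁ (pullback.fst f g ⁻¹ᵁ U ⊓ pullback.snd f g ⁻¹ᵁ V)),
      y ∈ Subring.closure
        (Set.range (fun a : Γ(X, U) => ((i ≫ pullback.fst f g).appLE U
            (i ⁻¹ᵁ (pullback.fst f g ⁻¹ᵁ U ⊓ pullback.snd f g ⁻¹ᵁ V))
            (by rw [Scheme.Hom.comp_preimage]
                exact (Opens.map i.base).monotone inf_le_left)).hom a) ∪
         Set.range (fun b : Γ(Y, V) => ((i ≫ pullback.snd f g).appLE V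
            (i ⁻¹ᵁ (pullback.fst f g ⁻¹ᵁ U ⊓ pullback.snd f g ⁻¹ᵁ V))
            (by rw [Scheme.Hom.comp_preimage]
                exact (Opens.map i.base).monotone inf_le_right)).hom b))) :
    Function.Surjective (i.app (pullback.fst f g ⁻¹ᵁ U ⊓ pullback.snd f g ⁻¹ᵁ V)).hom := by
  intro y
  have hy := h y
  have hle : Subring.closure
        (Set.range (fun a : Γ(X, U) => ((i ≫ pullback.fst f g).appLE U
            (i ⁻¹ᵁ (pullback.fst f g ⁻¹ᵁ U ⊓ pullback.snd f g ⁻¹ᵁ V))
            (by rw [Scheme.Hom.comp_preimage]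
                exact (Opens.map i.base).monotone inf_le_left)).hom a) ∪
         Set.range (fun b : Γ(Y, V) => ((i ≫ pullback.snd f g).appLE V
            (i ⁻¹ᵁ (pullback.fst f g ⁻¹ᵁ U ⊓ pullback.snd f g ⁻¹ᵁ V))
            (by rw [Scheme.Hom.comp_preimage]
                exact (Opens.map i.base).monotone inf_le_right)).hom b)) ≤
      (i.app (pullback.fst f g ⁻¹ᵁ U ⊓ pullback.snd f g ⁻¹ᵁ V)).hom.range := by
    rw [Subring.closure_le]
    rintro _ (⟨a, rfl⟩ | ⟨b, rfl⟩)
    · refine ⟨((pullback f g).presheaf.map (homOfLE (inf_le_left :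
        pullback.fst f g ⁻¹ᵁ U ⊓ pullback.snd f g ⁻¹ᵁ V ≤ pullback.fst f g ⁻¹ᵁ U)).op).hom
          (((pullback.fst f g).app U).hom a), ?_⟩
      simp only [Scheme.Hom.comp_appLE]
      rw [Scheme.Hom.appLE]
      simp only [CommRingCat.hom_comp, RingHom.comp_apply]
      have hnat := i.naturality (homOfLE (inf_le_left :
        pullback.fst f g ⁻¹ᵁ U ⊓ pullback.snd f g ⁻¹ᵁ V ≤ pullback.fst f g ⁻¹ᵁ U)).op
      have h2 := congrArg (fun φ => φ.hom (((pullback.fst f g).app U).hom a)) hnat
      simp only [CommRingCat.hom_comp, RingHom.comp_apply] at h2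
      exact h2
    · refine ⟨((pullback f g).presheaf.map (homOfLE (inf_le_right :
        pullback.fst f g ⁻¹ᵁ U ⊓ pullback.snd f g ⁻¹ᵁ V ≤ pullback.snd f g ⁻¹ᵁ V)).op).hom
          (((pullback.snd f g).app V).hom b), ?_⟩
      simp only [Scheme.Hom.comp_appLE]
      rw [Scheme.Hom.appLE]
      simp only [CommRingCat.hom_comp, RingHom.comp_apply]
      have hnat := i.naturality (homOfLE (inf_le_right :
        pullback.fst f g ⁻¹ᵁ U ⊓ pullback.snd f g ⁻¹ᵁ V ≤ pullback.snd f g ⁻¹ᵁ V)).op
      have h2 := congrArg (fun φ => φ.hom (((pullback.snd f g).app V).hom b)) hnat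
      simp only [CommRingCat.hom_comp, RingHom.comp_apply] at h2
      exact h2
  exact hle hy

end Groth.Agent.H18.VA
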