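import Groth.Agent.H18.PUP.Unique
import Groth.Agent.H18.STL.PullCocycle

/-!
# A morphism to `Proj` with `r^* O(1) ≅ L`: preimages of `D₊(g)` and ratios of sections (helper18)
-/

set_option autoImplicit false
universe u
open CategoryTheory CategoryTheory.Limits AlgebraicGeometry TopologicalSpace Opposite

namespace Groth.Agent.H18.VA

open Groth.Agent.H18 Groth.Agent.H18.PUP Groth.Agent.H18.STL

variable {A S : Type u} [CommRing A] [CommRing S] [Algebra A S]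
variable (𝒮 : ℕ → Submodule A S) [GradedAlgebra 𝒮]
variable {X : Scheme.{u}} (r : X ⟶ Proj 𝒮) {L : X.Modules}
  (τ : (Scheme.Modules.pullback r).obj (Twist.twist 𝒮 1) ≅ L)

/-- the section of `L` corresponding to `a ∈ 𝒮 1` -/
noncomputable def tsec {a : S} (ha : a ∈ 𝒮 1) : Γ(L, (⊤ : X.Opens)) :=
  τ.hom.app ⊤ (psec 𝒮 r ha)

/-- on `r⁻¹ D₊(g)`: `τ(r^* a) = r^♯(a / g) • τ(r^* g)` -/
theorem tsec_ratio {a g : S} (ha : a ∈ 𝒮 1) (hg : g ∈ 𝒮 1) :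
    mres L (le_top : r ⁻¹ᵁ Proj.basicOpen 𝒮 g ≤ ⊤) (tsec 𝒮 r τ ha) =
      (r.app (Proj.basicOpen 𝒮 g)).hom (fracO 𝒮 ha hg (Proj.basicOpen 𝒮 g) (fun _ hx => hx)) •
        mres L (le_top : r ⁻¹ᵁ Proj.basicOpen 𝒮 g ≤ ⊤) (tsec 𝒮 r τ hg) := by
  have h := congrArg (τ.hom.app (r ⁻¹ᵁ Proj.basicOpen 𝒮 g)) (psec_ratio 𝒮 r ha hg)
  rw [Scheme.Modules.Hom.app_smul] at h
  have e1 := app_res τ.hom (le_top : r ⁻¹ᵁ Proj.basicOpen 𝒮 g ≤ ⊤) (psec 𝒮 r ha)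
  have e2 := app_res τ.hom (le_top : r ⁻¹ᵁ Proj.basicOpen 𝒮 g ≤ ⊤) (psec 𝒮 r hg)
  rw [← e1, ← e2] at h
  exact h

/-- `τ(r^* g)` is a basis of `L` over `r⁻¹ D₊(g)` -/
theorem isBasisOn_tsec {g : S} (hg : g ∈ 𝒮 1) :
    IsBasisOn L (r ⁻¹ᵁ Proj.basicOpen 𝒮 g)
      (mres L (le_top : r ⁻¹ᵁ Proj.basicOpen 𝒮 g ≤ ⊤) (tsec 𝒮 r τ hg)) := by
  have h1 := Groth.Agent.H67.PullBasis.isBasisOn_pullSect_global r (Twist.twist 𝒮 1) (gs 𝒮 hg)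
    (Proj.basicOpen 𝒮 g) (isBasisOn_gs 𝒮 hg)
  have h2 : mres L (le_top : r ⁻¹ᵁ Proj.basicOpen 𝒮 g ≤ ⊤) (tsec 𝒮 r τ hg) =
      τ.hom.app (r ⁻¹ᵁ Proj.basicOpen 𝒮 g)
        (mres ((Scheme.Modules.pullback r).obj (Twist.twist 𝒮 1)) le_top (psec 𝒮 r hg)) :=
    app_res τ.hom (le_top : r ⁻¹ᵁ Proj.basicOpen 𝒮 g ≤ ⊤) (psec 𝒮 r hg)
  rw [h2]
  refine IsBasisOn.of_iso τ.symm ?_
  change IsBasisOn _ _ (τ.inv.app _ (τ.hom.app _ _))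
  have h3 : τ.inv.app (r ⁻¹ᵁ Proj.basicOpen 𝒮 g) (τ.hom.app (r ⁻¹ᵁ Proj.basicOpen 𝒮 g)
      (mres ((Scheme.Modules.pullback r).obj (Twist.twist 𝒮 1)) le_top (psec 𝒮 r hg))) =
      mres ((Scheme.Modules.pullback r).obj (Twist.twist 𝒮 1)) le_top (psec 𝒮 r hg) := by
    have := congrArg (fun φ => φ.app (r ⁻¹ᵁ Proj.basicOpen 𝒮 g)
      (mres ((Scheme.Modules.pullback r).obj (Twist.twist 𝒮 1)) le_top (psec 𝒮 r hg)))
      τ.hom_inv_id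
    exact this
  rw [h3]
  exact h1

/-- `r⁻¹ D₊(g)` is the locus where `τ(r^* g)` generates `L` -/
theorem preimage_basicOpen_eq_genLocus (hL : PicF.IsInvertible L) {g : S} (hg : g ∈ 𝒮 1)
    (hproj : ∀ y : Proj 𝒮, ∃ b : S, b ∈ 𝒮 1 ∧ y ∈ Proj.basicOpen 𝒮 b) :
    r ⁻¹ᵁ Proj.basicOpen 𝒮 g = CohB1.genLocus L (sectionHom L (tsec 𝒮 r τ hg)) := by
  apply le_antisymm
  · have hb := isBasisOn_tsec 𝒮 r τ hg
    have h1 := genLocus_inf_eq_basicOpen (sectionHom L (tsec 𝒮 r τ hg)) hb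
      (1 : Γ(X, r ⁻¹ᵁ Proj.basicOpen 𝒮 g)) (by rw [val_sectionHom, one_smul])
    have h2 : X.basicOpen (1 : Γ(X, r ⁻¹ᵁ Proj.basicOpen 𝒮 g)) = r ⁻¹ᵁ Proj.basicOpen 𝒮 g :=
      X.basicOpen_of_isUnit isUnit_one
    rw [h2] at h1
    exact inf_eq_right.1 h1
  · have hb := Groth.Agent.H67.BasisLocal.isBasisOn_genLocus hL (sectionHom L (tsec 𝒮 r τ hg))
    rw [val_sectionHom] at hb
    refine le_preimage_of_isBasisOn 𝒮 r hg _ ?_ hproj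
    refine IsBasisOn.of_iso τ ?_
    have h2 : τ.hom.app (CohB1.genLocus L (sectionHom L (tsec 𝒮 r τ hg)))
        (mres ((Scheme.Modules.pullback r).obj (Twist.twist 𝒮 1)) le_top (psec 𝒮 r hg)) =
        mres L le_top (tsec 𝒮 r τ hg) :=
      (app_res τ.hom (le_top : CohB1.genLocus L (sectionHom L (tsec 𝒮 r τ hg)) ≤ ⊤)
        (psec 𝒮 r hg)).symm
    rw [h2]
    exact hb

/-- the function `r^♯(a / g)` is the ratio of the sections `τ(r^* a)` and `τ(r^* g)` -/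
theorem appLE_fracO_eq_of_ratio {a g : S} (ha : a ∈ 𝒮 1) (hg : g ∈ 𝒮 1) (U' : X.Opens)
    (hU' : U' ≤ r ⁻¹ᵁ Proj.basicOpen 𝒮 g)
    (ρ : Γ(X, U'))
    (hρ : mres L (le_top : U' ≤ ⊤) (tsec 𝒮 r τ ha) = ρ • mres L (le_top : U' ≤ ⊤) (tsec 𝒮 r τ hg)) :
    (r.appLE (Proj.basicOpen 𝒮 g) U' hU').hom
      (fracO 𝒮 ha hg (Proj.basicOpen 𝒮 g) (fun _ hx => hx)) = ρ := by
  have hb := (isBasisOn_tsec 𝒮 r τ hg).mono hU'
  rw [mres_mres] at hb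
  apply (hb U' le_rfl).1
  change _ • mres L _ _ = ρ • mres L _ _
  rw [mres_self, ← hρ]
  have h := congrArg (mres L hU') (tsec_ratio 𝒮 r τ ha hg)
  rw [mres_mres, mres_smul, mres_mres] at h
  exact h.symm

end Groth.Agent.H18.VA
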