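import Groth.Agent.S3572
import Groth.Agent.H18.VA.Immersion
import Groth.Agent.H18.VA.PullbackAffine
import Groth.Agent.H18.VA.ToProj

/-!
# Very ampleness (projective space form) from generating sections (helper18)
-/

set_option autoImplicit false
universe u
open CategoryTheory CategoryTheory.Limits AlgebraicGeometry TopologicalSpace Opposite

namespace Groth.Agent.H18.VA

open Groth.Agent.H18 Groth.Agent.H18.PUP Groth.Agent.H18.STL

/-- variant of `surjective_app_of_closure` with the two components of the morphism named -/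
theorem surjective_app_of_closure' {T X Y Z : Scheme.{u}} (f : X ⟶ Z) (g : Y ⟶ Z)
    (i : T ⟶ pullback f g) (r : T ⟶ X) (hr : i ≫ pullback.fst f g = r)
    (p : T ⟶ Y) (hp : i ≫ pullback.snd f g = p) (U : X.Opens) (V : Y.Opens)
    (U' : T.Opens) (hU' : U' = r ⁻¹ᵁ U ⊓ p ⁻¹ᵁ V)
    (h : ∀ y : Γ(T, U'), y ∈ Subring.closure
        (Set.range (r.appLE U U' (by rw [hU']; exact inf_le_left)).hom ∪
         Set.range (p.appLE V U' (by rw [hU']; exact inf_le_right)).hom)) :
    Function.Surjective (i.app (pullback.fst f g ⁻¹ᵁ U ⊓ pullback.snd f g ⁻¹ᵁ V)).hom := by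
  subst hr hp
  have h0 : (i ≫ pullback.fst f g) ⁻¹ᵁ U ⊓ (i ≫ pullback.snd f g) ⁻¹ᵁ V =
      i ⁻¹ᵁ (pullback.fst f g ⁻¹ᵁ U ⊓ pullback.snd f g ⁻¹ᵁ V) := rfl
  rw [h0] at hU'
  subst hU'
  exact surjective_app_of_closure f g i U V h

end Groth.Agent.H18.VA

namespace Groth.Agent.H18.VA

open Groth.Agent.H18 Groth.Agent.H18.PUP Groth.Agent.H18.STL

/-- global sections one of which is a basis near each point generate the module -/
theorem generatedBy_of_cover_genLocus {X : Scheme.{u}} (L : X.Modules) (hL : PicF.IsInvertible L)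
    {ι : Type*} (s : ι → ProjUP.Γm L)
    (hcov : ∀ x : X, ∃ k, x ∈ CohB1.genLocus L (sectionHom L (s k))) :
    ProjUP.GeneratedBy L s := by
  refine generatedBy_of_locally_mem_span L s (fun V t x hxV => ?_)
  obtain ⟨k, hk⟩ := hcov x
  have hb := Groth.Agent.H67.BasisLocal.isBasisOn_genLocus hL (sectionHom L (s k))
  rw [val_sectionHom] at hb
  refine ⟨V ⊓ CohB1.genLocus L (sectionHom L (s k)), inf_le_left, ⟨hxV, hk⟩, ?_⟩
  obtain ⟨c, hc⟩ := (hb (V ⊓ CohB1.genLocus L (sectionHom L (s k))) inf_le_right).2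
    (mres L inf_le_left t)
  rw [← hc]
  refine Submodule.smul_mem _ _ (Submodule.subset_span ⟨k, ?_⟩)
  exact (mres_mres L _ _ _).symm

end Groth.Agent.H18.VA
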