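import Groth.Agent.H18.VA.RelAmpleOfVA
import Groth.Agent.S9710
import Groth.Prelude.Def_RelProj

/-!
# Locally quasi-projective morphisms (helper18)
-/

set_option autoImplicit false
set_option linter.style.haveILetI false
universe u
open CategoryTheory CategoryTheory.Limits AlgebraicGeometry TopologicalSpace Opposite

namespace Groth.Agent.H18.VA

open Groth.Agent.H18 Groth.Agent.H18.PUP Groth.Agent.H18.STL

theorem image_preimage_ι_eq {S : Scheme.{u}} {U V : S.Opens} (hVU : V ≤ U) :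
    U.ι ''ᵁ (U.ι ⁻¹ᵁ V) = V := by
  rw [Scheme.Hom.image_preimage_eq_opensRange_inf, Scheme.Opens.opensRange_ι, inf_eq_right.2 hVU]

/-- a property local on the target passes from `f ∣_ U` to `f ∣_ V` for `V ≤ U` -/
theorem morphismRestrict_of_le (P : MorphismProperty Scheme.{u}) [IsZariskiLocalAtTarget P]
    {X S : Scheme.{u}} (f : X ⟶ S) {U V : S.Opens} (hVU : V ≤ U) (h : P (f ∣_ U)) :
    P (f ∣_ V) := by
  have h1 : P (f ∣_ U ∣_ (U.ι ⁻¹ᵁ V)) := IsZariskiLocalAtTarget.restrict h _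
  rw [P.arrow_mk_iso_iff (morphismRestrictRestrict f U (U.ι ⁻¹ᵁ V))] at h1
  exact (P.arrow_mk_iso_iff (morphismRestrictEq f (image_preimage_ι_eq hVU))).1 h1

/-- a morphism of finite type to an affine scheme whose source carries an ample module is
H-quasi-projective -/
theorem isHQuasiProjective_of_isAmple {X S : Scheme.{u}} (f : X ⟶ S) [LocallyOfFiniteType f]
    [QuasiCompact f] {L : X.Modules} (hL : CohB1.IsAmple L) : RelProj.IsHQuasiProjective f := by
  obtain ⟨d₀, -, h⟩ := Groth.Agent.S9710.result f L hL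
  obtain ⟨n, i, hi, hcomm, -⟩ := h d₀ le_rfl
  refine ⟨n, i, hi, ?_, hcomm⟩
  haveI : QuasiCompact (i ≫ pullback.snd (CohB1.ProjSpace.toSpec n (ULift.{u} ℤ))
      (specULiftZIsTerminal.from S)) := by rw [hcomm]; infer_instance
  exact QuasiCompact.of_comp i (pullback.snd (CohB1.ProjSpace.toSpec n (ULift.{u} ℤ))
      (specULiftZIsTerminal.from S))

/-- an H-quasi-projective morphism is quasi-projective -/
theorem isQuasiProjective_of_isHQuasiProjective {X S : Scheme.{u}} (f : X ⟶ S)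
    (h : RelProj.IsHQuasiProjective f) : RelProj.IsQuasiProjective f := by
  obtain ⟨n, i, hi, hqc, hcomm⟩ := h
  have hft : LocallyOfFiniteType f := by
    rw [← hcomm]
    exact MorphismProperty.comp_mem (W := @LocallyOfFiniteType) _ _ inferInstance inferInstance
  have hqcf : QuasiCompact f := by
    rw [← hcomm]
    exact MorphismProperty.comp_mem (W := @QuasiCompact) _ _ inferInstance inferInstance
  exact ⟨hft, hqcf, _, isRelAmple_of_isRelVeryAmplePn f ⟨n, i, hi, hcomm, ⟨Iso.refl _⟩⟩⟩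

/-- restricting a quasi-projective morphism over an affine open gives an H-quasi-projective
morphism -/
theorem isHQuasiProjective_restrict_of_isQuasiProjective {X S : Scheme.{u}} (f : X ⟶ S)
    {U V : S.Opens} (hVU : V ≤ U) (hV : IsAffineOpen V)
    (h : RelProj.IsQuasiProjective (f ∣_ U)) : RelProj.IsHQuasiProjective (f ∣_ V) := by
  obtain ⟨hft, hqc, L, hL⟩ := h
  haveI hftV : LocallyOfFiniteType (f ∣_ V) :=
    morphismRestrict_of_le @LocallyOfFiniteType f hVU hft
  haveI hqcV : QuasiCompact (f ∣_ V) := morphismRestrict_of_le @QuasiCompact f hVU hqc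
  have hV' : IsAffineOpen (U.ι ⁻¹ᵁ V) := by
    rw [← Scheme.Hom.isAffineOpen_iff_of_isOpenImmersion U.ι, image_preimage_ι_eq hVU]
    exact hV
  have h0 : CohB1.IsAmple (L.restrict ((f ∣_ U) ⁻¹ᵁ (U.ι ⁻¹ᵁ V)).ι) := hL.2 ⟨_, hV'⟩
  have hcpt : CompactSpace ↥(f ⁻¹ᵁ V : Scheme.{u}) := by
    haveI : IsAffine (V : Scheme.{u}) := hV
    exact (HasAffineProperty.iff_of_isAffine (P := @QuasiCompact)).1 hqcV
  have hM : CohB1.IsAmple (L.restrict (X.homOfLE (f.preimage_mono hVU))) := by
    refine OI.isAmple_restrict_of_range_le ((f ∣_ U) ⁻¹ᵁ (U.ι ⁻¹ᵁ V)).ι _ ?_ hcpt h0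
    rintro _ ⟨p, rfl⟩
    rw [Scheme.Opens.range_ι]
    change U.ι ((f ∣_ U) (X.homOfLE (f.preimage_mono hVU) p)) ∈ V
    rw [← Scheme.Hom.comp_apply, morphismRestrict_ι, Scheme.Hom.comp_apply,
      ← Scheme.Hom.comp_apply (X.homOfLE _), Scheme.homOfLE_ι]
    exact p.2
  exact isHQuasiProjective_of_isAmple (f ∣_ V) hM

end Groth.Agent.H18.VA
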