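import Groth.Agent.H18.VA.Criterion
import Groth.Agent.H18.VA.Coords

/-!
# Very ampleness (projective space form) from generating sections: the criterion (helper18)
-/

set_option autoImplicit false
universe u
open CategoryTheory CategoryTheory.Limits AlgebraicGeometry TopologicalSpace Opposite

namespace Groth.Agent.H18.VA

open Groth.Agent.H18 Groth.Agent.H18.PUP Groth.Agent.H18.STL

theorem X_mem (R : Type u) [CommRing R] (n : ℕ) (k : Fin (n + 1)) :
    (MvPolynomial.X k : MvPolynomial (Fin (n + 1)) R) ∈ CohB1.polyGrading n R 1 :=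
  MvPolynomial.isHomogeneous_X R k

theorem hproj_poly (R : Type u) [CommRing R] (n : ℕ) (y : Proj (CohB1.polyGrading n R)) :
    ∃ b : MvPolynomial (Fin (n + 1)) R, b ∈ CohB1.polyGrading n R 1 ∧
      y ∈ Proj.basicOpen (CohB1.polyGrading n R) b := by
  obtain ⟨i, hi⟩ := exists_notMem_of_adjoin_eq_top (CohB1.polyGrading n R)
    (fun i : Fin (n + 1) => (MvPolynomial.X i : MvPolynomial (Fin (n + 1)) R))
    (MvPolynomial.adjoin_range_X) y
  exact ⟨MvPolynomial.X i, X_mem R n i, hi⟩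

/-- the criterion: sections `a j` of `L`, a subset `K` of the indices such that the `X_{a k}`,
`k ∈ K`, are affine, cover `X`, map into affine opens `V k` of `S`, and have rings of functions
generated by the ratios `a j / a k` and the functions coming from `V k` -/
theorem isRelVeryAmplePn_of_sections {X S : Scheme.{u}} (f : X ⟶ S) (L : X.Modules)
    (hL : PicF.IsInvertible L) {n : ℕ} (a : Fin (n + 1) → (Coh.structureModule X ⟶ L))
    (K : Set (Fin (n + 1))) (V : Fin (n + 1) → S.Opens)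
    (hcov : ∀ x : X, ∃ k ∈ K, x ∈ CohB1.genLocus L (a k))
    (haff : ∀ k ∈ K, IsAffineOpen (CohB1.genLocus L (a k)))
    (hV : ∀ k ∈ K, IsAffineOpen (V k))
    (hle : ∀ k ∈ K, CohB1.genLocus L (a k) ≤ f ⁻¹ᵁ V k)
    (hgen : ∀ k (hk : k ∈ K) (ρ : Fin (n + 1) → Γ(X, CohB1.genLocus L (a k))),
      (∀ j, SecTwist.val (a j) (CohB1.genLocus L (a k)) =
        ρ j • SecTwist.val (a k) (CohB1.genLocus L (a k))) →
      Subring.closure (Set.range ρ ∪ Set.range (f.appLE (V k) _ (hle k hk)).hom) = ⊤) :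
    RelAmple.IsRelVeryAmplePn f L := by
  let s : Fin (n + 1) → ProjUP.Γm L := fun k => SecTwist.val (a k) ⊤
  have hsa : ∀ k, sectionHom L (s k) = a k := fun k => sectionHom_val_top _
  have hs : ProjUP.GeneratedBy L s := generatedBy_of_cover_genLocus L hL s (fun x => by
    obtain ⟨k, -, hk⟩ := hcov x
    exact ⟨k, by rw [hsa]; exact hk⟩)
  obtain ⟨r, hr, τ, hτ⟩ := Groth.Agent.S3572.result (R := ULift.{u} ℤ) n
    (specULiftZIsTerminal.from X) L hL s hs
  let 𝒮 := CohB1.polyGrading n (ULift.{u} ℤ)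
  have hts : ∀ k, tsec 𝒮 r τ (X_mem _ n k) = s k := fun k => hτ k
  have hpre : ∀ k, r ⁻¹ᵁ Proj.basicOpen 𝒮 (MvPolynomial.X k) = CohB1.genLocus L (a k) := by
    intro k
    have := preimage_basicOpen_eq_genLocus 𝒮 r τ hL (X_mem _ n k) (hproj_poly _ n)
    rw [hts, hsa] at this
    exact this
  let π0 := CohB1.ProjSpace.toSpec n (ULift.{u} ℤ)
  let tS := specULiftZIsTerminal.from S
  let i : X ⟶ CohB1.ProjSpaceOver n S :=
    pullback.lift r f (specULiftZIsTerminal.hom_ext _ _)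
  have hi1 : i ≫ pullback.fst π0 tS = r := pullback.lift_fst _ _ _
  have hi2 : i ≫ pullback.snd π0 tS = f := pullback.lift_snd _ _ _
  refine ⟨n, i, ?_, hi2, ?_⟩
  · -- `i` is an immersion
    refine isImmersion_of_affine_cover i (κ := K)
      (fun k => pullback.fst π0 tS ⁻¹ᵁ Proj.basicOpen 𝒮 (MvPolynomial.X k.1) ⊓
        pullback.snd π0 tS ⁻¹ᵁ V k.1) ?_ ?_ ?_ ?_
    · intro k
      exact isAffineOpen_pullback_inf π0 tS
        (Proj.isAffineOpen_basicOpen 𝒮 (MvPolynomial.X k.1) (X_mem _ n k.1) one_pos) (hV k.1 k.2)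
    · intro k
      have h1 : i ⁻¹ᵁ (pullback.fst π0 tS ⁻¹ᵁ Proj.basicOpen 𝒮 (MvPolynomial.X k.1) ⊓
          pullback.snd π0 tS ⁻¹ᵁ V k.1) = CohB1.genLocus L (a k.1) := by
        change (i ≫ pullback.fst π0 tS) ⁻¹ᵁ _ ⊓ (i ≫ pullback.snd π0 tS) ⁻¹ᵁ _ = _
        rw [hi1, hi2, hpre, inf_eq_left.2 (hle k.1 k.2)]
      rw [h1]
      exact haff k.1 k.2
    · intro k
      have hb := Groth.Agent.H67.BasisLocal.isBasisOn_genLocus hL (a k.1)
      have hex : ∀ j, ∃ ρ : Γ(X, CohB1.genLocus L (a k.1)),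
          SecTwist.val (a j) (CohB1.genLocus L (a k.1)) =
            ρ • SecTwist.val (a k.1) (CohB1.genLocus L (a k.1)) := by
        intro j
        obtain ⟨ρ, hρ⟩ := (hb _ le_rfl).2 (SecTwist.val (a j) (CohB1.genLocus L (a k.1)))
        refine ⟨ρ, hρ.symm.trans ?_⟩
        exact congrArg (fun z => ρ • z) (mres_self L _ _)
      choose ρ hρ using hex
      have hclos := hgen k.1 k.2 ρ hρ
      refine surjective_app_of_closure' π0 tS i r hi1 f hi2 _ _
        (CohB1.genLocus L (a k.1))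
        (by rw [hpre, inf_eq_left.2 (hle k.1 k.2)]) ?_
      intro y
      have hy : y ∈ Subring.closure (Set.range ρ ∪
          Set.range (f.appLE (V k.1) _ (hle k.1 k.2)).hom) := by rw [hclos]; trivial
      refine Subring.closure_mono ?_ hy
      apply Set.union_subset_union_left
      rintro _ ⟨j, rfl⟩
      refine ⟨fracO 𝒮 (X_mem _ n j) (X_mem _ n k.1) (Proj.basicOpen 𝒮 (MvPolynomial.X k.1))
        (fun _ hx => hx), ?_⟩
      refine appLE_fracO_eq_of_ratio 𝒮 r τ (X_mem _ n j) (X_mem _ n k.1) _ _ (ρ j) ?_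
      rw [hts, hts]
      change mres L _ (SecTwist.val (a j) ⊤) = ρ j • mres L _ (SecTwist.val (a k.1) ⊤)
      rw [mres_val, mres_val]
      exact hρ j
    · intro x
      obtain ⟨k, hk, hx⟩ := hcov x
      refine ⟨⟨k, hk⟩, ?_⟩
      have h1 : x ∈ (i ≫ pullback.fst π0 tS) ⁻¹ᵁ Proj.basicOpen 𝒮 (MvPolynomial.X k) ⊓
          (i ≫ pullback.snd π0 tS) ⁻¹ᵁ V k := by
        rw [hi1, hi2, hpre]
        exact ⟨hx, hle k hk hx⟩
      exact h1
  · -- the isomorphism `L ≅ i^* O(1)`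
    refine ⟨τ.symm ≪≫ ((Scheme.Modules.pullbackCongr hi1.symm).app _) ≪≫
      ((Scheme.Modules.pullbackComp i (pullback.fst π0 tS)).app _).symm⟩

/-- the criterion, for sections indexed by a nonempty finite type -/
theorem isRelVeryAmplePn_of_homs {X S : Scheme.{u}} (f : X ⟶ S) (Q : X.Modules)
    (hQ : PicF.IsInvertible Q) {J : Type*} [Fintype J] [Nonempty J]
    (a : J → (Coh.structureModule X ⟶ Q)) (K : Set J) (V : J → S.Opens)
    (hcov : ∀ x : X, ∃ k ∈ K, x ∈ CohB1.genLocus Q (a k))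
    (haff : ∀ k ∈ K, IsAffineOpen (CohB1.genLocus Q (a k)))
    (hV : ∀ k ∈ K, IsAffineOpen (V k))
    (hle : ∀ k ∈ K, CohB1.genLocus Q (a k) ≤ f ⁻¹ᵁ V k)
    (hgen : ∀ k (hk : k ∈ K) (ρ : J → Γ(X, CohB1.genLocus Q (a k))),
      (∀ j, SecTwist.val (a j) (CohB1.genLocus Q (a k)) =
        ρ j • SecTwist.val (a k) (CohB1.genLocus Q (a k))) →
      Subring.closure (Set.range ρ ∪ Set.range (f.appLE (V k) _ (hle k hk)).hom) = ⊤) :
    RelAmple.IsRelVeryAmplePn f Q := by
  classical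
  obtain ⟨n, hn⟩ : ∃ n, Fintype.card J = n + 1 :=
    ⟨Fintype.card J - 1, (Nat.succ_pred_eq_of_pos Fintype.card_pos).symm⟩
  let e : J ≃ Fin (n + 1) := Fintype.equivFinOfCardEq hn
  refine isRelVeryAmplePn_of_sections f Q hQ (fun k' => a (e.symm k')) {k' | e.symm k' ∈ K}
    (fun k' => V (e.symm k')) ?_ ?_ ?_ ?_ ?_
  · intro x
    obtain ⟨k, hk, hx⟩ := hcov x
    refine ⟨e k, ?_, ?_⟩
    · change e.symm (e k) ∈ K
      rw [Equiv.symm_apply_apply]; exact hk
    · change x ∈ CohB1.genLocus Q (a (e.symm (e k)))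
      rw [Equiv.symm_apply_apply]; exact hx
  · intro k' hk'
    exact haff _ hk'
  · intro k' hk'
    exact hV _ hk'
  · intro k' hk'
    exact hle _ hk'
  · intro k' hk' ρ hρ
    have h1 := hgen (e.symm k') hk' (fun j => ρ (e j)) (fun j => by
      have := hρ (e j)
      simp only [Equiv.symm_apply_apply] at this
      exact this)
    rw [← h1]
    congr 2
    ext z
    constructor
    · rintro ⟨j', rfl⟩
      exact ⟨e.symm j', by simp⟩
    · rintro ⟨j, rfl⟩
      exact ⟨e j, rfl⟩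

end Groth.Agent.H18.VA
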