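import Groth.Agent.H18.VA.ProjSpaceIso
import Groth.Agent.H18.ProjClosed

/-!
# `Proj.map` is compatible with the structure morphisms to the base ring (helper18)
-/

set_option autoImplicit false
universe u
open CategoryTheory CategoryTheory.Limits AlgebraicGeometry TopologicalSpace Opposite
  HomogeneousLocalization

namespace Groth.Agent.H18.VA

variable {R A B : Type u} [CommRing R] [CommRing A] [CommRing B] [Algebra R A] [Algebra R B]
  (𝒜 : ℕ → Submodule R A) [GradedAlgebra 𝒜] (ℬ : ℕ → Submodule R B) [GradedAlgebra ℬ]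

theorem awayMap_fromZero (φ : 𝒜 →+*ᵍ ℬ) (a : A) (z : 𝒜 0) :
    Away.map φ a (fromZeroRingHom 𝒜 (Submonoid.powers a) z) =
      fromZeroRingHom ℬ (Submonoid.powers (φ a)) ⟨φ z, φ.2 z.2⟩ := by
  apply HomogeneousLocalization.val_injective
  change (HomogeneousLocalization.map φ _ (HomogeneousLocalization.mk _)).val =
    (HomogeneousLocalization.mk _).val
  rw [HomogeneousLocalization.map_mk, HomogeneousLocalization.val_mk,
    HomogeneousLocalization.val_mk]
  congr 1
  exact Subtype.ext (map_one φ)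

/-- `Proj` of a homomorphism of graded `R`-algebras is a morphism over `Spec R` -/
theorem projMap_comp_toSpecZero (φ : 𝒜 →+*ᵍ ℬ)
    (hφ : HomogeneousIdeal.irrelevant ℬ ≤ (HomogeneousIdeal.irrelevant 𝒜).map φ)
    (hR : ∀ r : R, φ (algebraMap R A r) = algebraMap R B r) :
    Proj.map φ hφ ≫ Proj.toSpecZero 𝒜 ≫ Spec.map (CommRingCat.ofHom (algebraMap R (𝒜 0))) =
      Proj.toSpecZero ℬ ≫ Spec.map (CommRingCat.ofHom (algebraMap R (ℬ 0))) := by
  have aux : ∀ (i : ℕ) (hi : 0 < i) (a : A) (ha : a ∈ 𝒜 i),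
      Proj.awayι ℬ (φ a) (φ.2 ha) hi ≫ Proj.map φ hφ ≫ Proj.toSpecZero 𝒜 ≫
        Spec.map (CommRingCat.ofHom (algebraMap R (𝒜 0))) =
      Proj.awayι ℬ (φ a) (φ.2 ha) hi ≫ Proj.toSpecZero ℬ ≫
        Spec.map (CommRingCat.ofHom (algebraMap R (ℬ 0))) := by
    intro i hi a ha
    rw [Proj.awayι_comp_map_assoc φ hφ hi a ha, Proj.awayι_toSpecZero_assoc,
      Proj.awayι_toSpecZero_assoc, ← Spec.map_comp, ← Spec.map_comp, ← Spec.map_comp]
    congr 1
    ext r
    change (Away.map φ a (fromZeroRingHom 𝒜 (Submonoid.powers a) (algebraMap R (𝒜 0) r))).val =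
      (fromZeroRingHom ℬ (Submonoid.powers (φ a)) (algebraMap R (ℬ 0) r)).val
    rw [awayMap_fromZero]
    congr 2
    exact Subtype.ext (hR r)
  refine (Proj.mapAffineOpenCover φ hφ).openCover.hom_ext _ _ fun s => ?_
  exact aux s.1 s.1.2 s.2 s.2.2

end Groth.Agent.H18.VA
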