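import Groth.Agent.H18.VA.ProjMapToSpec

/-!
# Closed subschemes of `Proj` as `Proj` of a quotient, over the base ring (helper18)
-/

set_option autoImplicit false
set_option linter.style.haveILetI false
universe u
open CategoryTheory CategoryTheory.Limits AlgebraicGeometry TopologicalSpace Opposite
  HomogeneousLocalization

namespace Groth.Agent.H18.VA

open Groth.Agent.H18

variable {R A : Type u} [CommRing R] [CommRing A] [Algebra R A]
  (𝒜 : ℕ → Submodule R A) [GradedAlgebra 𝒜]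

/-- a closed subscheme of `Proj 𝒜` (irrelevant ideal generated by finitely many elements of degree
one, degree-zero part a quotient of `R`) is `Proj` of a graded `R`-algebra of the same kind, over
`Spec R` -/
theorem exists_proj_of_isClosedImmersion (s : Finset A) (hs1 : ∀ f ∈ s, f ∈ 𝒜 1)
    (hs : (HomogeneousIdeal.irrelevant 𝒜).toIdeal = Ideal.span (s : Set A))
    (hR0 : Function.Surjective (algebraMap R (𝒜 0)))
    {Z : Scheme.{u}} (j : Z ⟶ Proj 𝒜) [IsClosedImmersion j] :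
    ∃ (B : Type u) (_ : CommRing B) (_ : Algebra R B) (ℬ : ℕ → Submodule R B)
      (_ : GradedAlgebra ℬ) (t : Finset B),
      Function.Surjective (algebraMap R (ℬ 0)) ∧ (∀ g ∈ t, g ∈ ℬ 1) ∧
      (HomogeneousIdeal.irrelevant ℬ).toIdeal = Ideal.span (t : Set B) ∧
      ∃ e : Z ≅ Proj ℬ,
        e.hom ≫ Proj.toSpecZero ℬ ≫ Spec.map (CommRingCat.ofHom (algebraMap R (ℬ 0))) =
          j ≫ Proj.toSpecZero 𝒜 ≫ Spec.map (CommRingCat.ofHom (algebraMap R (𝒜 0))) := by
  classical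
  have hI := sectIdeal_isHomogeneous s hs1 (chartIdeal 𝒜 j.ker)
  letI := quotGradedAlgebra 𝒜 hI
  have hsurj := quotGradedHom_surjective 𝒜 hI
  have hφ := irrelevant_le_map_of_surjective (quotGradedHom 𝒜 hI) hsurj
  have hker := ker_projMap_quot_sectIdeal 𝒜 s hs1 hs j.ker hφ
  have hci : IsClosedImmersion (Proj.map (quotGradedHom 𝒜 hI) hφ) :=
    Groth.Agent.S3563.result 𝒜 _ _ hsurj hφ
  have hiso : IsIso (IsClosedImmersion.lift (Proj.map (quotGradedHom 𝒜 hI) hφ) j hker.le) :=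
    IsClosedImmersion.isIso_lift _ _ hker
  have hfac : IsClosedImmersion.lift (Proj.map (quotGradedHom 𝒜 hI) hφ) j hker.le ≫
      Proj.map (quotGradedHom 𝒜 hI) hφ = j := IsClosedImmersion.lift_fac _ _ _
  have hRq : ∀ r : R, quotGradedHom 𝒜 hI (algebraMap R A r) =
      algebraMap R (A ⧸ sectIdeal s hs1 (chartIdeal 𝒜 j.ker)) r := fun r => rfl
  refine ⟨_, _, _, quotGrading 𝒜 _, quotGradedAlgebra 𝒜 hI, s.image (quotGradedHom 𝒜 hI),
    ?_, ?_, ?_, asIso (IsClosedImmersion.lift (Proj.map (quotGradedHom 𝒜 hI) hφ) j hker.le), ?_⟩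
  · rintro ⟨b, hb⟩
    obtain ⟨a, ha, rfl⟩ := gradedRingHom_surjective_on_pieces (quotGradedHom 𝒜 hI) hsurj 0 b hb
    obtain ⟨r, hr⟩ := hR0 ⟨a, ha⟩
    refine ⟨r, Subtype.ext ?_⟩
    have hr' : algebraMap R A r = a := congrArg Subtype.val hr
    change algebraMap R (A ⧸ sectIdeal s hs1 (chartIdeal 𝒜 j.ker)) r = quotGradedHom 𝒜 hI a
    rw [← hr', hRq]
  · intro g hg
    obtain ⟨f, hf, rfl⟩ := Finset.mem_image.1 hg
    exact (quotGradedHom 𝒜 hI).2 (hs1 f hf)
  · apply le_antisymm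
    · have h1 := (toIdeal_le_toIdeal_iff.2 hφ)
      refine h1.trans ?_
      change Ideal.map (quotGradedHom 𝒜 hI) (HomogeneousIdeal.irrelevant 𝒜).toIdeal ≤ _
      rw [hs, Ideal.map_span, Finset.coe_image]
    · rw [Ideal.span_le]
      intro g hg
      obtain ⟨f, hf, rfl⟩ := Finset.mem_image.1 (Finset.mem_coe.1 hg)
      exact HomogeneousIdeal.mem_irrelevant_of_mem _ Nat.one_pos
        ((quotGradedHom 𝒜 hI).2 (hs1 f hf))
  · rw [asIso_hom, ← projMap_comp_toSpecZero 𝒜 _ (quotGradedHom 𝒜 hI) hφ hRq, ← Category.assoc,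
      hfac]

end Groth.Agent.H18.VA
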