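import Groth.Agent.H18.VA.Converse
import Groth.Agent.H18.STL.CompositeAmple

/-!
# Basic properties of `P^n_S → S` (helper18)

The structure morphisms `P^n_R ⟶ Spec R` and `P^n_S ⟶ S` are proper, `O(1)` on `P^n_S` is ample
relative to `P^n_S ⟶ S`, and if `S` carries an ample module then so does `P^n_S`.
-/

set_option autoImplicit false
set_option linter.style.haveILetI false
universe u
open CategoryTheory CategoryTheory.Limits AlgebraicGeometry TopologicalSpace Opposite

namespace Groth.Agent.H18.VA

open Groth.Agent.H18 Groth.Agent.H18.PUP Groth.Agent.H18.STL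

instance isScalarTower_polyGrading (n : ℕ) (R : Type u) [CommRing R] :
    IsScalarTower R (CohB1.polyGrading n R 0) (MvPolynomial (Fin (n + 1)) R) :=
  IsScalarTower.of_algebraMap_eq (R := R) (S := CohB1.polyGrading n R 0)
    (A := MvPolynomial (Fin (n + 1)) R) (fun _ => rfl)

instance finiteType_polyGrading (n : ℕ) (R : Type u) [CommRing R] :
    Algebra.FiniteType (CohB1.polyGrading n R 0) (MvPolynomial (Fin (n + 1)) R) :=
  Algebra.FiniteType.of_restrictScalars_finiteType R (CohB1.polyGrading n R 0)
    (MvPolynomial (Fin (n + 1)) R)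

theorem algebraMap_polyGrading_zero_surjective (n : ℕ) (R : Type u) [CommRing R] :
    Function.Surjective (algebraMap R (CohB1.polyGrading n R 0)) := by
  rintro ⟨p, hp⟩
  have hp' : p ∈ MvPolynomial.homogeneousSubmodule (Fin (n + 1)) R 0 := hp
  rw [MvPolynomial.homogeneousSubmodule_zero, Submodule.mem_one] at hp'
  obtain ⟨r, hr⟩ := hp'
  exact ⟨r, Subtype.ext hr⟩

instance isProper_projSpace_toSpec (n : ℕ) (R : Type u) [CommRing R] :
    IsProper (CohB1.ProjSpace.toSpec n R) := by
  unfold CohB1.ProjSpace.toSpec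
  have h1 : IsProper (Proj.toSpecZero (CohB1.polyGrading n R)) := inferInstance
  haveI : IsClosedImmersion (Spec.map (CommRingCat.ofHom
      (algebraMap R (CohB1.polyGrading n R 0)))) :=
    IsClosedImmersion.spec_of_surjective _ (algebraMap_polyGrading_zero_surjective n R)
  have h2 : IsProper (Spec.map (CommRingCat.ofHom
      (algebraMap R (CohB1.polyGrading n R 0)))) := inferInstance
  exact MorphismProperty.comp_mem (W := @IsProper) _ _ h1 h2

instance isProper_projSpaceOver_snd (n : ℕ) (S : Scheme.{u}) :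
    IsProper (pullback.snd (CohB1.ProjSpace.toSpec n (ULift.{u} ℤ))
      (specULiftZIsTerminal.from S)) :=
  MorphismProperty.pullback_snd (P := @IsProper) _ _ inferInstance

/-- the same instance with the source written as `CohB1.ProjSpaceOver n S` -/
instance isProper_projSpaceOver_snd' (n : ℕ) (S : Scheme.{u}) :
    @IsProper (CohB1.ProjSpaceOver n S) S
      (pullback.snd (CohB1.ProjSpace.toSpec n (ULift.{u} ℤ)) (specULiftZIsTerminal.from S)) :=
  isProper_projSpaceOver_snd n S

instance isProper_projSpaceOver_toBase (n : ℕ) (S : Scheme.{u}) :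
    IsProper (CohB1.ProjSpaceOver.toBase n S) :=
  isProper_projSpaceOver_snd n S

/-- `O(1)` is ample relative to `P^n_S ⟶ S` -/
theorem isRelAmple_twistOver (n : ℕ) (S : Scheme.{u}) :
    RelAmple.IsRelAmple (pullback.snd (CohB1.ProjSpace.toSpec n (ULift.{u} ℤ))
      (specULiftZIsTerminal.from S)) (Twist.twistOver n S 1) := by
  have h0 : RelAmple.IsRelAmple (CohB1.ProjSpace.toSpec n (ULift.{u} ℤ))
      (Twist.twistProjSpace n (ULift.{u} ℤ) 1) :=
    (isRelAmple_iff_isAmple_of_isAffine _ _).2 (isAmple_twistProjSpace n (ULift.{u} ℤ))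
  exact isRelAmple_of_isPullback (IsPullback.of_hasPullback _ _) h0

/-- if `S` carries an ample module, so does `P^n_S` -/
theorem exists_isAmple_projSpaceOver (n : ℕ) {S : Scheme.{u}} {N : S.Modules}
    (hN : CohB1.IsAmple N) : ∃ M : (CohB1.ProjSpaceOver n S).Modules, CohB1.IsAmple M := by
  haveI : CompactSpace S := hN.2.1
  let g := specULiftZIsTerminal.from S
  haveI : QuasiCompact g := by
    rw [HasAffineProperty.iff_of_isAffine (P := @QuasiCompact)]
    infer_instance
  have hK : RelAmple.IsRelAmple g N := (isRelAmple_iff_isAmple_of_isAffine _ _).2 hN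
  haveI : QuasiCompact (pullback.snd (CohB1.ProjSpace.toSpec n (ULift.{u} ℤ)) g) :=
    inferInstance
  obtain ⟨n₀, -, h⟩ := exists_isRelAmple_comp_tensorMod_pullback_tensorPow
    (pullback.snd (CohB1.ProjSpace.toSpec n (ULift.{u} ℤ)) g) g
    (isRelAmple_twistOver n S) hK
  have h1 := (isRelAmple_iff_isAmple_of_isAffine _ _).1 (h n₀ le_rfl)
  exact ⟨_, h1⟩

end Groth.Agent.H18.VA
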