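import Groth.Agent.H18.VA.ProjSpaceBasic

/-!
# Inverse images of global sections: functoriality (helper18)
-/

set_option autoImplicit false
universe u
open CategoryTheory CategoryTheory.Limits AlgebraicGeometry TopologicalSpace Opposite

namespace Groth.Agent.H18.VA

/-- inverse images of global sections compose -/
theorem pullSec_comp {X Y Z : Scheme.{u}} (f : X ⟶ Y) (g : Y ⟶ Z) (M : Z.Modules)
    (σ : ProjUP.Γm M) :
    ((Scheme.Modules.pullbackComp f g).inv.app M).app ⊤ (ProjUP.pullSec (f ≫ g) M σ) =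
      ProjUP.pullSec f _ (ProjUP.pullSec g M σ) := by
  have h := unit_conjugateEquiv ((Scheme.Modules.pullbackPushforwardAdjunction g).comp
    (Scheme.Modules.pullbackPushforwardAdjunction f))
    (Scheme.Modules.pullbackPushforwardAdjunction (f ≫ g)) (Scheme.Modules.pullbackComp f g).inv M
  rw [Scheme.Modules.conjugateEquiv_pullbackComp_inv] at h
  have h2 := congrArg (fun φ => (Scheme.Modules.Hom.app φ ⊤) σ) h
  simp only [Adjunction.comp_unit_app] at h2
  exact h2.symm

theorem pullSec_comp' {X Y Z : Scheme.{u}} (f : X ⟶ Y) (g : Y ⟶ Z) (M : Z.Modules)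
    (σ : ProjUP.Γm M) :
    ((Scheme.Modules.pullbackComp f g).hom.app M).app ⊤
      (ProjUP.pullSec f _ (ProjUP.pullSec g M σ)) = ProjUP.pullSec (f ≫ g) M σ := by
  rw [← pullSec_comp]
  have h : (Scheme.Modules.pullbackComp f g).inv.app M ≫
      (Scheme.Modules.pullbackComp f g).hom.app M = 𝟙 _ := Iso.inv_hom_id_app _ _
  have h2 := congrArg (fun φ => (Scheme.Modules.Hom.app φ ⊤) (ProjUP.pullSec (f ≫ g) M σ)) h
  exact h2

/-- inverse images of global sections are natural in the module -/
theorem pullSec_map {X Y : Scheme.{u}} (f : X ⟶ Y) {M M' : Y.Modules} (φ : M ⟶ M')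
    (σ : ProjUP.Γm M) :
    ((Scheme.Modules.pullback f).map φ).app ⊤ (ProjUP.pullSec f M σ) =
      ProjUP.pullSec f M' (φ.app ⊤ σ) := by
  have h := (Scheme.Modules.pullbackPushforwardAdjunction f).unit.naturality φ
  have h2 := congrArg (fun ψ => (Scheme.Modules.Hom.app ψ ⊤) σ) h
  exact h2.symm

/-- inverse images along equal morphisms -/
theorem pullSec_congr {X Y : Scheme.{u}} {f f' : X ⟶ Y} (hf : f = f') (M : Y.Modules)
    (σ : ProjUP.Γm M) :
    ((Scheme.Modules.pullbackCongr hf).hom.app M).app ⊤ (ProjUP.pullSec f M σ) =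
      ProjUP.pullSec f' M σ := by
  subst hf
  simp [Scheme.Modules.pullbackCongr]

/-- inverse images along the identity -/
theorem pullSec_id {X : Scheme.{u}} (M : X.Modules) (σ : ProjUP.Γm M) :
    ((Scheme.Modules.pullbackId X).hom.app M).app ⊤ (ProjUP.pullSec (𝟙 X) M σ) = σ := by
  have h := unit_conjugateEquiv Adjunction.id
    (Scheme.Modules.pullbackPushforwardAdjunction (𝟙 X)) (Scheme.Modules.pullbackId X).hom M
  rw [Scheme.Modules.conjugateEquiv_pullbackId_hom] at h
  have h2 := congrArg (fun φ => (Scheme.Modules.Hom.app φ ⊤) σ) h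
  exact h2.symm

end Groth.Agent.H18.VA
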