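import Groth.Agent.H18.VA.ProjSpaceBasic

/-!
# Very ample (projective space form) implies relatively ample (helper18)
-/

set_option autoImplicit false
set_option linter.style.haveILetI false
universe u
open CategoryTheory CategoryTheory.Limits AlgebraicGeometry TopologicalSpace Opposite

namespace Groth.Agent.H18.VA

open Groth.Agent.H18 Groth.Agent.H18.PUP Groth.Agent.H18.STL

/-- the pullback of a relatively ample module along a topological embedding is ample relative to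
the composite, provided the composite is quasi-compact -/
theorem isRelAmple_pullback_of_isEmbedding {X' P S' : Scheme.{u}} (i : X' ⟶ P) (π : P ⟶ S')
    (hi : Topology.IsEmbedding i) (hqc : QuasiCompact (i ≫ π)) {M : P.Modules}
    (hM : RelAmple.IsRelAmple π M) :
    RelAmple.IsRelAmple (i ≫ π) ((Scheme.Modules.pullback i).obj M) := by
  refine ⟨hqc, fun W => ?_⟩
  have hle : Set.range (((i ≫ π) ⁻¹ᵁ W.1).ι ≫ i) ⊆ Set.range (π ⁻¹ᵁ W.1).ι := by
    rintro _ ⟨p, rfl⟩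
    rw [Scheme.Opens.range_ι]
    exact p.2
  let q : (((i ≫ π) ⁻¹ᵁ W.1 : X'.Opens) : Scheme.{u}) ⟶ ((π ⁻¹ᵁ W.1 : P.Opens) : Scheme.{u}) :=
    IsOpenImmersion.lift (π ⁻¹ᵁ W.1).ι (((i ≫ π) ⁻¹ᵁ W.1).ι ≫ i) hle
  have hq : q ≫ (π ⁻¹ᵁ W.1).ι = ((i ≫ π) ⁻¹ᵁ W.1).ι ≫ i := IsOpenImmersion.lift_fac _ _ _
  have hqemb : Topology.IsEmbedding q := by
    have h1 : Topology.IsEmbedding (((i ≫ π) ⁻¹ᵁ W.1).ι ≫ i) :=
      hi.comp ((i ≫ π) ⁻¹ᵁ W.1).ι.isEmbedding
    refine Topology.IsEmbedding.of_comp q.continuous (π ⁻¹ᵁ W.1).ι.continuous ?_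
    rw [← hq] at h1
    exact h1
  haveI : CompactSpace ↥((i ≫ π) ⁻¹ᵁ W.1 : Scheme.{u}) :=
    isCompact_iff_compactSpace.1 (QuasiCompact.isCompact_preimage (f := i ≫ π) _ W.1.isOpen
      W.2.isCompact)
  have h1 := Groth.Agent.H67.AmplePullback.isAmple_pullback_of_isEmbedding q hqemb
    (M.restrict (π ⁻¹ᵁ W.1).ι) (hM.2 W)
  exact isAmple_of_iso (restrictPullbackIso ((i ≫ π) ⁻¹ᵁ W.1).ι i (π ⁻¹ᵁ W.1).ι q hq M).symm h1

/-- a module very ample in the projective space form is relatively ample -/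
theorem isRelAmple_of_isRelVeryAmplePn {X S : Scheme.{u}} (f : X ⟶ S) [QuasiCompact f]
    {M : X.Modules} (h : RelAmple.IsRelVeryAmplePn f M) : RelAmple.IsRelAmple f M := by
  obtain ⟨n, i, hi, hcomm, ⟨e⟩⟩ := h
  have h1 := isRelAmple_pullback_of_isEmbedding i
    (pullback.snd (CohB1.ProjSpace.toSpec n (ULift.{u} ℤ)) (specULiftZIsTerminal.from S))
    (Scheme.Hom.isEmbedding i) (by rw [hcomm]; infer_instance) (isRelAmple_twistOver n S)
  rw [hcomm] at h1
  exact isRelAmple_of_iso f e.symm h1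

end Groth.Agent.H18.VA
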